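import Groth.Agent.Lib.SpecDense.Core
import Groth.Agent.Lib.Dim.Ring
import Mathlib.RingTheory.ZariskisMainTheorem
import Mathlib.RingTheory.LocalRing.ResidueField.Fiber
import Mathlib.RingTheory.KrullDimension.Polynomial
import Mathlib.RingTheory.KrullDimension.NonZeroDivisors

/-!
Elements cutting a fibre to a finite set at a closed point, independent at the generic point of a
component of maximal dimension.
-/

universe u

open TensorProduct MvPolynomial

noncomputable section

namespace GrothLib.QuasiSec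

/-- A prime in a finite antichain of primes making up its fibre is quasi-finite. -/
theorem quasiFiniteAt_of_fibre {T S : Type u} [CommRing T] [CommRing S] [Algebra T S]
    [Algebra.FiniteType T S] (q : PrimeSpectrum S) (E : Set (PrimeSpectrum S)) (hE : E.Finite)
    (hmax : ∀ x ∈ E, ∀ y ∈ E, x.asIdeal ≤ y.asIdeal → x = y)
    (hsub : ∀ x : PrimeSpectrum S,
      x.asIdeal.comap (algebraMap T S) = q.asIdeal.comap (algebraMap T S) → x ∈ E) :
    Algebra.QuasiFiniteAt T q.asIdeal := by
  let F : Set (PrimeSpectrum S) :=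
    PrimeSpectrum.comap (algebraMap T S) ⁻¹' {PrimeSpectrum.comap (algebraMap T S) q}
  have hFE : F ⊆ E := fun x hx => hsub x (congrArg PrimeSpectrum.asIdeal (hx :
    PrimeSpectrum.comap (algebraMap T S) x = _))
  haveI : Finite F := (hE.subset hFE).to_subtype
  haveI : T1Space F := t1Space_iff_specializes_imp_eq.mpr fun x y h => Subtype.ext <|
    hmax _ (hFE x.2) _ (hFE y.2) ((PrimeSpectrum.le_iff_specializes x.1 y.1).mpr
      (h.map continuous_subtype_val))
  exact Algebra.QuasiFiniteAt.of_isOpen_singleton_fiber q (isOpen_discrete _)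

variable {R B : Type u} [CommRing R] [CommRing B] [Algebra R B]

theorem exists_cut [Algebra.FiniteType R B] (p : Ideal R) [p.IsPrime] (Qx Qz : Ideal (p.Fiber B))
    [Qx.IsMaximal] [Qz.IsPrime]
    (hdim : ringKrullDim (p.Fiber B) ≤ ringKrullDim (p.Fiber B ⧸ Qz)) :
    ∃ (d : ℕ) (b : Fin d → B),
      (∀ i, (1 : p.ResidueField) ⊗ₜ[R] b i ∈ Qx) ∧
      (∀ P : MvPolynomial (Fin d) p.ResidueField,
        aeval (fun i => (1 : p.ResidueField) ⊗ₜ[R] b i) P ∈ Qz → P = 0) ∧
      (letI : Algebra (MvPolynomial (Fin d) R) B := (aeval b).toRingHom.toAlgebra;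
        Algebra.QuasiFiniteAt (MvPolynomial (Fin d) R) (Qx.comap Algebra.TensorProduct.includeRight.toRingHom)) ∧
      ∀ y : PrimeSpectrum (B ⧸ Ideal.span (Set.range b)),
        y.asIdeal.comap (Ideal.Quotient.mk _) = Qx.comap Algebra.TensorProduct.includeRight.toRingHom →
        Algebra.QuasiFiniteAt R y.asIdeal := by
  let κ := p.ResidueField
  obtain ⟨d, g, hginj, hgfin, hgx⟩ := GrothLib.SpecDense.exists_normalization_at (k := κ) Qx
  choose r hr b hb using fun i => Ideal.Fiber.exists_smul_eq_one_tmul p (g (X i))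
  have hr0 : ∀ i, algebraMap R κ (r i) ≠ 0 := fun i h => hr i (Ideal.algebraMap_residueField_eq_zero.mp h)
  -- rescale the variables
  let e : MvPolynomial (Fin d) κ →ₐ[κ] MvPolynomial (Fin d) κ := aeval fun i => C (algebraMap R κ (r i)) * X i
  let e' : MvPolynomial (Fin d) κ →ₐ[κ] MvPolynomial (Fin d) κ := aeval fun i => C (algebraMap R κ (r i))⁻¹ * X i
  have he : ∀ P, e' (e P) = P := fun P => by
    change (e'.comp e) P = (AlgHom.id κ _) P
    congr 1
    refine MvPolynomial.algHom_ext fun i => ?_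
    simp only [e, e', AlgHom.comp_apply, AlgHom.id_apply, aeval_X, map_mul, aeval_C, MvPolynomial.algebraMap_eq]
    rw [← mul_assoc, ← map_mul, mul_inv_cancel₀ (hr0 i), map_one, _root_.one_mul]
  have he' : ∀ P, e (e' P) = P := fun P => by
    change (e.comp e') P = (AlgHom.id κ _) P
    congr 1
    refine MvPolynomial.algHom_ext fun i => ?_
    simp only [e, e', AlgHom.comp_apply, AlgHom.id_apply, aeval_X, map_mul, aeval_C, MvPolynomial.algebraMap_eq]
    rw [← mul_assoc, ← map_mul, inv_mul_cancel₀ (hr0 i), map_one, _root_.one_mul]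
  let f : MvPolynomial (Fin d) κ →ₐ[κ] p.Fiber B := aeval fun i => (1 : κ) ⊗ₜ[R] b i
  have hfg : f = g.comp e := MvPolynomial.algHom_ext fun i => by
    simp [f, e, ← hb i, Algebra.smul_def, IsScalarTower.algebraMap_apply R κ (p.Fiber B)]
  have hfinj : Function.Injective f := by
    rw [hfg]; exact hginj.comp (Function.LeftInverse.injective he)
  have hffin : f.Finite := by
    rw [hfg]
    exact RingHom.Finite.comp hgfin (RingHom.Finite.of_surjective _ (Function.RightInverse.surjective he'))
  have hbx : ∀ i, (1 : κ) ⊗ₜ[R] b i ∈ Qx := fun i => by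
    rw [← hb i]
    exact Submodule.smul_of_tower_mem Qx (r i) (hgx i)
  algebraize [f.toRingHom]
  haveI : Module.Finite (MvPolynomial (Fin d) κ) (p.Fiber B) := hffin
  -- independence at the generic point
  have hgen : ∀ P : MvPolynomial (Fin d) κ, f P ∈ Qz → P = 0 := by
    intro P hP
    by_contra hP0
    let P₀ : Ideal (MvPolynomial (Fin d) κ) := Qz.comap f.toRingHom
    haveI : Qz.LiesOver P₀ := ⟨rfl⟩
    have h1 : ringKrullDim (p.Fiber B ⧸ Qz) = ringKrullDim (MvPolynomial (Fin d) κ ⧸ P₀) :=
      @GrothLib.Dim.ringKrullDim_eq_of_isIntegral (MvPolynomial (Fin d) κ ⧸ P₀) (p.Fiber B ⧸ Qz) _ _ _ inferInstance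
        (FaithfulSMul.algebraMap_injective _ _)
    have h2 : ringKrullDim (MvPolynomial (Fin d) κ ⧸ P₀) + 1 ≤ ringKrullDim (MvPolynomial (Fin d) κ) :=
      ringKrullDim_succ_le_of_surjective (Ideal.Quotient.mk P₀) Ideal.Quotient.mk_surjective
        (mem_nonZeroDivisors_of_ne_zero hP0) (Ideal.Quotient.eq_zero_iff_mem.mpr hP)
    have h3 : ringKrullDim (p.Fiber B) = ringKrullDim (MvPolynomial (Fin d) κ) :=
      GrothLib.Dim.ringKrullDim_eq_of_isIntegral hfinj
    have h4 : ringKrullDim (MvPolynomial (Fin d) κ) + 1 ≤ ringKrullDim (MvPolynomial (Fin d) κ) := by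
      refine le_trans ?_ h2
      gcongr
      rw [← h1, ← h3]
      exact hdim
    rw [MvPolynomial.ringKrullDim_of_isNoetherianRing, ringKrullDim_eq_zero_of_field, zero_add, Nat.card_fin,
      ← Nat.cast_one, ← Nat.cast_add, Nat.cast_le] at h4
    omega
  -- the finite cut of the fibre
  let E : Set (PrimeSpectrum B) := {x | x.asIdeal.comap (algebraMap R B) = p ∧ ∀ i, b i ∈ x.asIdeal}
  let ε := PrimeSpectrum.preimageHomeomorphFiber R B ⟨p, inferInstance⟩
  let m₀ : PrimeSpectrum (MvPolynomial (Fin d) κ) := PrimeSpectrum.comap f.toRingHom ⟨Qx, inferInstance⟩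
  have hcomap : ∀ z, (ε.symm z).1.asIdeal =
      z.asIdeal.comap Algebra.TensorProduct.includeRight.toRingHom := fun z => rfl
  have hfib : ∀ (x : PrimeSpectrum B) (hx : x ∈ E),
      PrimeSpectrum.comap f.toRingHom (ε ⟨x, PrimeSpectrum.ext hx.1⟩) = m₀ := by
    intro x hx
    have hX : ∀ (Q : Ideal (p.Fiber B)) [Q.IsPrime], (∀ i, (1 : κ) ⊗ₜ[R] b i ∈ Q) →
        Q.comap f.toRingHom = RingHom.ker (aeval (fun _ => (0 : κ)) : MvPolynomial (Fin d) κ →ₐ[κ] κ).toRingHom := by
      intro Q _ hQ
      have hP : ∀ P, f P - algebraMap κ (p.Fiber B) (aeval (fun _ => (0 : κ)) P) ∈ Q := by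
        intro P
        induction P using MvPolynomial.induction_on with
        | C a =>
          rw [← MvPolynomial.algebraMap_eq, AlgHom.commutes, AlgHom.commutes, Algebra.algebraMap_self,
            RingHom.id_apply, sub_self]
          exact Q.zero_mem
        | add a c ha hc =>
          rw [map_add, map_add, map_add, add_sub_add_comm]
          exact Q.add_mem ha hc
        | mul_X a i ha =>
          simp only [map_mul, aeval_X, f, mul_zero, map_zero, sub_zero]
          exact Q.mul_mem_left _ (hQ i)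
      ext P
      rw [Ideal.mem_comap, RingHom.mem_ker]
      change f P ∈ Q ↔ aeval (fun _ => (0 : κ)) P = 0
      refine ⟨fun h => ?_, fun h => ?_⟩
      · have h' := Q.sub_mem h (hP P)
        rw [sub_sub_cancel] at h'
        by_contra h0
        exact (inferInstance : Q.IsPrime).ne_top
          (Ideal.eq_top_of_isUnit_mem _ h' ((isUnit_iff_ne_zero.mpr h0).map (algebraMap κ (p.Fiber B))))
      · have h' := hP P
        rwa [h, map_zero, sub_zero] at h'
    refine PrimeSpectrum.ext ?_
    change Ideal.comap f.toRingHom _ = Ideal.comap f.toRingHom _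
    rw [hX _ hbx, hX _ fun i => ?_]
    have h : b i ∈ (ε.symm (ε ⟨x, PrimeSpectrum.ext hx.1⟩)).1.asIdeal := by
      rw [Homeomorph.symm_apply_apply]; exact hx.2 i
    exact h
  have hEfin : E.Finite := by
    refine ((Algebra.QuasiFinite.finite_comap_preimage_singleton (S := p.Fiber B) m₀).image
      fun z => (ε.symm z).1).subset fun x hx => ⟨ε ⟨x, PrimeSpectrum.ext hx.1⟩, hfib x hx, ?_⟩
    exact congrArg Subtype.val (ε.symm_apply_apply ⟨x, PrimeSpectrum.ext hx.1⟩)
  have hEmax : ∀ x ∈ E, ∀ y ∈ E, x.asIdeal ≤ y.asIdeal → x = y := fun x hx y hy hle => by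
    have hxy : (ε ⟨x, PrimeSpectrum.ext hx.1⟩).asIdeal ≤ (ε ⟨y, PrimeSpectrum.ext hy.1⟩).asIdeal :=
      (PrimeSpectrum.preimageOrderIsoFiber R B ⟨p, inferInstance⟩).monotone hle
    have := Algebra.QuasiFinite.eq_of_le_of_under_eq (R := MvPolynomial (Fin d) κ) _ _ hxy
      ((congrArg PrimeSpectrum.asIdeal (hfib x hx)).trans (congrArg PrimeSpectrum.asIdeal (hfib y hy)).symm)
    exact congrArg Subtype.val (ε.injective (PrimeSpectrum.ext this))
  have hqx : (Qx.comap Algebra.TensorProduct.includeRight.toRingHom).comap (algebraMap R B) = p :=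
    congrArg PrimeSpectrum.asIdeal (ε.symm ⟨Qx, inferInstance⟩).2
  refine ⟨d, b, hbx, hgen, ?_, fun y hy => ?_⟩
  · letI : Algebra (MvPolynomial (Fin d) R) B := (aeval b).toRingHom.toAlgebra
    haveI : IsScalarTower R (MvPolynomial (Fin d) R) B :=
      IsScalarTower.of_algebraMap_eq fun a => ((aeval b).commutes a).symm
    haveI : Algebra.FiniteType (MvPolynomial (Fin d) R) B :=
      Algebra.FiniteType.of_restrictScalars_finiteType R (MvPolynomial (Fin d) R) B
    refine quasiFiniteAt_of_fibre ⟨Qx.comap Algebra.TensorProduct.includeRight.toRingHom, Ideal.comap_isPrime _ _⟩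
      E hEfin hEmax fun x hx => ⟨?_, fun i => ?_⟩
    · rw [IsScalarTower.algebraMap_eq R (MvPolynomial (Fin d) R) B, ← Ideal.comap_comap, hx, Ideal.comap_comap,
        ← IsScalarTower.algebraMap_eq]
      exact hqx
    · have h1 := (SetLike.ext_iff.mp hx (X i)).mpr
      simp only [Ideal.mem_comap, RingHom.algebraMap_toAlgebra, AlgHom.toRingHom_eq_coe, RingHom.coe_coe,
        aeval_X] at h1
      exact h1 (hbx i)
  · have hbq : ∀ i, b i ∈ Ideal.span (Set.range b) := fun i => Ideal.subset_span ⟨i, rfl⟩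
    let c := PrimeSpectrum.comap (Ideal.Quotient.mk (Ideal.span (Set.range b)))
    have hc : Function.Injective c := PrimeSpectrum.comap_injective_of_surjective _ Ideal.Quotient.mk_surjective
    refine quasiFiniteAt_of_fibre y (c ⁻¹' E) (hEfin.preimage hc.injOn) (fun x hx z hz hle =>
      hc (hEmax _ hx _ hz (Ideal.comap_mono hle))) fun x hx => ⟨?_, fun i => ?_⟩
    · rw [← hqx, ← hy]
      exact hx
    · change Ideal.Quotient.mk _ (b i) ∈ x.asIdeal
      rw [Ideal.Quotient.eq_zero_iff_mem.mpr (hbq i)]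
      exact x.asIdeal.zero_mem

end GrothLib.QuasiSec
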