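import Groth.Agent.Lib.QuasiSec.Core
import Groth.Agent.Lib.QuasiSec.Cut
import Groth.Agent.Lib.Dim.Scheme
import Groth.Agent.Lib.BrnchNhd.Embedded
import Groth.Prelude.Def_Flat
import Groth.Prelude.Def_EGA43
import Mathlib.AlgebraicGeometry.Morphisms.QuasiFinite

/-!
A subscheme through a closed point of a fibre, quasi-finite there, whose image contains all
generizations of the base point (EGA IV 14.5.3).
-/

universe u

open CategoryTheory CategoryTheory.Limits AlgebraicGeometry TopologicalSpace Topology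
open TensorProduct

noncomputable section

namespace GrothLib.QuasiSec

variable {X S : Scheme.{u}}

/-- An irreducible closed subset of a fibre has the dimension of its nonempty open pieces. -/
theorem dim_inter_eq (f : X ⟶ S) [LocallyOfFiniteType f] (s : S) (Z : Set ↥(f.base ⁻¹' {s}))
    (hZc : IsClosed Z) (hZi : IsIrreducible Z) (O : Set ↥(f.base ⁻¹' {s})) (hO : IsOpen O)
    (hne : (Z ∩ O).Nonempty) :
    topologicalKrullDim ↥(Z ∩ O) = topologicalKrullDim ↥Z := by
  let h : f.fiber s ≃ₜ ↥(f.base ⁻¹' {s}) := f.fiberHomeo s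
  have hdim : ∀ A : Set ↥(f.base ⁻¹' {s}), topologicalKrullDim ↥(h ⁻¹' A) = topologicalKrullDim ↥A := fun A =>
    GrothLib.Dim.IsEmbedding.topologicalKrullDim_eq (f := fun z : h ⁻¹' A => h z.1)
      (h.isEmbedding.comp Topology.IsEmbedding.subtypeVal) (by
        rw [Set.range_comp' h Subtype.val, Subtype.range_coe, Set.image_preimage_eq _ h.surjective])
  have hlft : LocallyOfFiniteType (f.fiberToSpecResidueField s) :=
    MorphismProperty.pullback_snd f _ inferInstance
  obtain ⟨n, hn, hnO⟩ := @GrothLib.Dim.exists_nat_dim_irreducible (S.residueField s) _ (f.fiber s)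
    (f.fiberToSpecResidueField s) hlft (h ⁻¹' Z) (hZc.preimage h.continuous)
    ⟨hZi.nonempty.preimage h.surjective,
      hZi.isPreirreducible.preimage h.isOpenEmbedding⟩
  rw [← hdim, ← hdim, hn]
  exact hnO ⟨h ⁻¹' O, hO.preimage h.continuous⟩ (by
    obtain ⟨w, hw1, hw2⟩ := hne
    exact ⟨h.symm w, by simpa using hw1, by simpa using hw2⟩)

/-- Quasi-finiteness at a point of an affine scheme over an open affine of the base. -/
theorem quasiFiniteAt_of_algebra {R A : Type u} [CommRing R] [CommRing A] [Algebra R A]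
    [Algebra.FiniteType R A] (v : Spec (CommRingCat.of R) ⟶ S) [IsOpenImmersion v]
    (y : Spec (CommRingCat.of A)) [Algebra.QuasiFiniteAt R (y : PrimeSpectrum A).asIdeal] :
    (Spec.map (CommRingCat.ofHom (algebraMap R A)) ≫ v).QuasiFiniteAt y := by
  haveI : LocallyOfFiniteType (Spec.map (CommRingCat.ofHom (algebraMap R A))) :=
    (HasRingHomProperty.Spec_iff (P := @LocallyOfFiniteType)).mpr (RingHom.finiteType_algebraMap.mpr ‹_›)
  rw [Scheme.Hom.quasiFiniteAt_iff_isOpen_singleton_asFiber]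
  let g := Spec.map (CommRingCat.ofHom (algebraMap R A)) ≫ v
  have h := (Algebra.quasiFiniteAt_iff_isOpen_singleton_fiber (R := R) (y : PrimeSpectrum A)).mp ‹_›
  have heq : g ⁻¹' {g y} = PrimeSpectrum.comap (algebraMap R A) ⁻¹'
      {PrimeSpectrum.comap (algebraMap R A) (y : PrimeSpectrum A)} := by
    ext q
    exact ⟨fun hq => v.isOpenEmbedding.injective hq, fun hq => congrArg v hq⟩
  rw [← (g.fiberHomeo (g y)).isOpen_image, Set.image_singleton]
  rw [← (Homeomorph.setCongr heq.symm).isOpen_image, Set.image_singleton] at h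
  have hy : g.fiberHomeo (g y) (g.asFiber y) = ⟨y, rfl⟩ := (g.fiberHomeo (g y)).apply_symm_apply ⟨y, rfl⟩
  rw [hy]
  exact h

/-- The chart of a base change to an affine scheme over a chart. -/
theorem exists_chartMap (f : X ⟶ S) {R B : Type u} [CommRing R] [CommRing B] [Algebra R B]
    (j : Spec (CommRingCat.of B) ⟶ X) [IsOpenImmersion j] (v : Spec (CommRingCat.of R) ⟶ S)
    [IsOpenImmersion v] (hjv : j ≫ f = Spec.map (CommRingCat.ofHom (algebraMap R B)) ≫ v)
    (V : Type u) [CommRing V] [Algebra R V] :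
    ∃ m : Spec (CommRingCat.of (V ⊗[R] B)) ⟶
        pullback f (Spec.map (CommRingCat.ofHom (algebraMap R V)) ≫ v),
      IsOpenImmersion m ∧
      m ≫ pullback.fst _ _ = Spec.map (CommRingCat.ofHom Algebra.TensorProduct.includeRight.toRingHom) ≫ j ∧
      m ≫ pullback.snd _ _ = Spec.map (CommRingCat.ofHom (algebraMap V (V ⊗[R] B))) := by
  let aV : Spec (CommRingCat.of V) ⟶ Spec (CommRingCat.of R) := Spec.map (CommRingCat.ofHom (algebraMap R V))
  let e₁ : Spec (CommRingCat.of (V ⊗[R] B)) ≅ pullback (Spec.map (CommRingCat.ofHom (algebraMap R B))) aV :=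
    (pullbackSpecIso R V B).symm ≪≫ pullbackSymmetry _ _
  let m : Spec (CommRingCat.of (V ⊗[R] B)) ⟶ pullback f (aV ≫ v) :=
    e₁.hom ≫ pullback.map _ _ _ _ j (𝟙 _) v hjv.symm (by simp)
  refine ⟨m, inferInstance, ?_, ?_⟩
  · change m ≫ pullback.fst f (aV ≫ v) = _
    simp only [m, e₁, Iso.trans_hom, Iso.symm_hom, Category.assoc, pullback.lift_fst]
    erw [pullbackSymmetry_hom_comp_fst_assoc]
    exact congrArg (· ≫ j) (pullbackSpecIso_inv_snd R V B)
  · change m ≫ pullback.snd f (aV ≫ v) = _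
    simp only [m, e₁, Iso.trans_hom, Iso.symm_hom, Category.assoc, pullback.lift_snd, Category.comp_id]
    erw [pullbackSymmetry_hom_comp_snd]
    exact pullbackSpecIso_inv_fst' R V B

/-- Universal openness at the points over `Qz` gives generizations in generic fibres. -/
theorem exists_generic_le (f : X ⟶ S) {R B : Type u} [CommRing R] [CommRing B] [Algebra R B]
    (j : Spec (CommRingCat.of B) ⟶ X) [IsOpenImmersion j] (v : Spec (CommRingCat.of R) ⟶ S)
    [IsOpenImmersion v] (hjv : j ≫ f = Spec.map (CommRingCat.ofHom (algebraMap R B)) ≫ v)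
    (z : PrimeSpectrum B) (hopen : EGA43.IsUnivOpenAt f (j z))
    (V : Type u) [CommRing V] [IsDomain V] [IsLocalRing V] [Algebra R V]
    (Q : Ideal (V ⊗[R] B)) [Q.IsPrime]
    (hQB : Q.comap Algebra.TensorProduct.includeRight.toRingHom = z.asIdeal)
    (hQV : Q.comap (algebraMap V (V ⊗[R] B)) = IsLocalRing.maximalIdeal V) :
    ∃ Q' : Ideal (V ⊗[R] B), Q'.IsPrime ∧ Q' ≤ Q ∧ Q'.comap (algebraMap V (V ⊗[R] B)) = ⊥ := by
  let g := Spec.map (CommRingCat.ofHom (algebraMap R V)) ≫ v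
  obtain ⟨m, hmo, hm1, hm2⟩ := exists_chartMap f j v hjv V
  haveI := hmo
  let Qp : PrimeSpectrum (V ⊗[R] B) := ⟨Q, inferInstance⟩
  have hx' : pullback.fst f g (m Qp) = j z := by
    rw [← Scheme.Hom.comp_apply, hm1, Scheme.Hom.comp_apply]
    exact congrArg j (PrimeSpectrum.ext hQB)
  -- every neighbourhood meets the generic fibre
  have key : ∀ a ∉ Q, ∃ Q₁ : PrimeSpectrum (V ⊗[R] B),
      a ∉ Q₁.asIdeal ∧ Q₁.asIdeal.comap (algebraMap V (V ⊗[R] B)) = ⊥ := by
    intro a ha
    have h := hopen _ g (m Qp) hx' (m '' (PrimeSpectrum.basicOpen a : Set (PrimeSpectrum (V ⊗[R] B))))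
      ((m.isOpenEmbedding.isOpenMap _ (PrimeSpectrum.basicOpen a).2).mem_nhds ⟨Qp, ha, rfl⟩)
    obtain ⟨W, hWsub, hW, hxW⟩ := mem_nhds_iff.mp h
    have hgen : (⟨⊥, Ideal.isPrime_bot⟩ : PrimeSpectrum V) ⤳ (pullback.snd f g (m Qp) : PrimeSpectrum V) :=
      (PrimeSpectrum.le_iff_specializes (⟨⊥, Ideal.isPrime_bot⟩ : PrimeSpectrum V) _).mp bot_le
    obtain ⟨_, ⟨Q₁, hQ₁a, rfl⟩, hQ₁⟩ := hWsub (hgen.mem_open hW hxW)
    refine ⟨Q₁, hQ₁a, ?_⟩
    rw [← Scheme.Hom.comp_apply, hm2] at hQ₁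
    exact congrArg PrimeSpectrum.asIdeal hQ₁
  -- a prime below `Q` avoiding the nonzero scalars
  let M : Submonoid (V ⊗[R] B) := Q.primeCompl ⊔ (nonZeroDivisors V).map (algebraMap V (V ⊗[R] B))
  have hdisj : Disjoint ((⊥ : Ideal (V ⊗[R] B)) : Set (V ⊗[R] B)) M := by
    refine Set.disjoint_left.mpr fun w hw0 hw => ?_
    rw [SetLike.mem_coe, Ideal.mem_bot] at hw0
    obtain ⟨a, ha, _, ⟨c, hc, rfl⟩, hac⟩ := Submonoid.mem_sup.mp hw
    obtain ⟨Q₁, hQ₁a, hQ₁c⟩ := key a ha
    have h0 : a * algebraMap V (V ⊗[R] B) c ∈ Q₁.asIdeal := by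
      rw [show a * algebraMap V (V ⊗[R] B) c = w from hac, hw0]
      exact Q₁.asIdeal.zero_mem
    rcases Q₁.isPrime.mem_or_mem h0 with h | h
    · exact hQ₁a h
    · exact nonZeroDivisors.ne_zero hc (Ideal.mem_bot.mp (hQ₁c ▸ Ideal.mem_comap.mpr h))
  obtain ⟨Q', hQ'p, -, hQ'd⟩ := Ideal.exists_le_prime_disjoint _ M hdisj
  refine ⟨Q', hQ'p, fun w hw => by_contra fun hwQ =>
    Set.disjoint_left.mp hQ'd hw (Submonoid.mem_sup_left hwQ), ?_⟩
  refine eq_bot_iff.mpr fun c hc => Ideal.mem_bot.mpr (by_contra fun hc0 => ?_)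
  exact Set.disjoint_left.mp hQ'd hc (Submonoid.mem_sup_right ⟨c, mem_nonZeroDivisors_of_ne_zero hc0, rfl⟩)

/-- **A quasi-finite cut through a closed point of a fibre** meeting every generization of the base point. -/
theorem exists_quasiFinite_cut (f : X ⟶ S) [LocallyOfFinitePresentation f] (s : S) (x : X)
    (hxs : f.base x = s) (hx : IsClosed ((Subtype.val : ↥(f.base ⁻¹' {s}) → X) ⁻¹' {x}))
    (Z : Set ↥(f.base ⁻¹' {s})) (hZ : Z ∈ irreducibleComponents ↥(f.base ⁻¹' {s})) (hxZ : x ∈ Subtype.val '' Z)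
    (z : X) (hz : z ∈ Subtype.val '' Z ∧ Subtype.val '' Z ⊆ closure {z}) (hopen : EGA43.IsUnivOpenAt f z)
    (hdim : FlatMor.localDim ↥(f.base ⁻¹' {s}) ⟨x, hxs⟩ = topologicalKrullDim ↥Z) :
    ∃ (Y : Scheme.{u}) (c : Y ⟶ X) (y : Y), c y = x ∧ Function.Bijective (c.residueFieldMap y) ∧
      LocallyOfFinitePresentation (c ≫ f) ∧ (c ≫ f).QuasiFiniteAt y ∧
      ∀ (V : Type u) [CommRing V] [IsDomain V] [ValuationRing V] (a : Spec (CommRingCat.of V) ⟶ S),
        a (IsLocalRing.closedPoint V) = s → ∃ w₀ w₁ : ↑(pullback (c ≫ f) a), w₁ ⤳ w₀ ∧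
          pullback.fst (c ≫ f) a w₀ = y ∧ pullback.snd (c ≫ f) a w₀ = IsLocalRing.closedPoint V ∧
          pullback.snd (c ≫ f) a w₁ = (⟨⊥, Ideal.isPrime_bot⟩ : PrimeSpectrum V) := by
  have hZc : IsClosed Z := isClosed_of_mem_irreducibleComponents Z hZ
  have hZi : IsIrreducible Z := hZ.1
  let F := ↥(f.base ⁻¹' {s})
  -- an affine chart where the fibre has the dimension of `Z`
  let ι₀ := {U : Opens F // (⟨x, hxs⟩ : F) ∈ U}
  haveI : Nonempty ι₀ := ⟨⟨⊤, trivial⟩⟩
  obtain ⟨⟨W, hxW⟩, hW⟩ := ciInf_mem (fun U : ι₀ => topologicalKrullDim (U.1 : Set F))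
  obtain ⟨W', hW', hWW'⟩ := Topology.IsInducing.subtypeVal.isOpen_iff.mp W.2
  obtain ⟨_, ⟨(V : S.Opens), hV, rfl⟩, hsV, -⟩ := S.isBasis_affineOpens.exists_subset_of_mem_open
    (Set.mem_univ s) isOpen_univ
  obtain ⟨_, ⟨(U : X.Opens), hU, rfl⟩, hxU, hUsub⟩ := X.isBasis_affineOpens.exists_subset_of_mem_open
    (show x ∈ W' ∩ f ⁻¹ᵁ V from ⟨(Set.ext_iff.mp hWW' ⟨x, hxs⟩).mpr hxW, by
      change f.base x ∈ V; rw [hxs]; exact hsV⟩) (hW'.inter (f ⁻¹ᵁ V).2)
  have hV : IsAffineOpen V := hV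
  have hU : IsAffineOpen U := hU
  have hUV : U ≤ f ⁻¹ᵁ V := fun w hw => (hUsub hw).2
  let R : Type u := Γ(S, V)
  let B : Type u := Γ(X, U)
  let _ : Algebra R B := (f.appLE V U hUV).hom.toAlgebra
  haveI : Algebra.FinitePresentation R B := f.finitePresentation_appLE hV hU hUV
  have sq : hU.fromSpec ≫ f = Spec.map (CommRingCat.ofHom (algebraMap R B)) ≫ hV.fromSpec :=
    (hV.SpecMap_appLE_fromSpec f hU hUV).symm
  have hfj : ∀ q : PrimeSpectrum B, f (hU.fromSpec q) = hV.fromSpec (PrimeSpectrum.comap (algebraMap R B) q) :=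
    fun q => by rw [← Scheme.Hom.comp_apply, sq]; rfl
  obtain ⟨pp, hpp⟩ : ∃ pp : PrimeSpectrum R, hV.fromSpec pp = s := by
    exact hV.range_fromSpec.ge hsV
  let p := pp.asIdeal
  let C := p.Fiber B
  let ε := PrimeSpectrum.preimageHomeomorphFiber R B pp
  let e₀ : PrimeSpectrum C → F := fun c =>
    ⟨hU.fromSpec (ε.symm c).1, by
      change f (hU.fromSpec _) = s
      rw [hfj, show PrimeSpectrum.comap (algebraMap R B) (ε.symm c).1 = pp from (ε.symm c).2, hpp]⟩
  have he₀ : IsEmbedding e₀ :=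
    (hU.fromSpec.isEmbedding.comp (Topology.IsEmbedding.subtypeVal.comp ε.symm.isEmbedding)).codRestrict _ _
  have hrange : Set.range e₀ = Subtype.val ⁻¹' (U : Set X) := by
    ext w
    constructor
    · rintro ⟨c, rfl⟩; exact hU.range_fromSpec.le ⟨_, rfl⟩
    · intro hw
      obtain ⟨q, hq⟩ := hU.range_fromSpec.ge hw
      have hqp : PrimeSpectrum.comap (algebraMap R B) q = pp := hV.fromSpec.isOpenEmbedding.injective <| by
        rw [← hfj, hq, hpp]; exact w.2
      exact ⟨ε ⟨q, hqp⟩, Subtype.ext (by change hU.fromSpec (ε.symm (ε ⟨q, hqp⟩)).1 = w.1; rw [ε.symm_apply_apply]; exact hq)⟩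
  obtain ⟨wx, hwx⟩ : ∃ c, e₀ c = ⟨x, hxs⟩ := hrange.ge hxU
  obtain ⟨⟨zF, hzF⟩, hzcl⟩ := hz
  have hZcl : Z = closure {zF} := by
    refine Set.Subset.antisymm (fun w hw => ?_) (hZc.closure_subset_iff.mpr (Set.singleton_subset_iff.mpr hzF.1))
    rw [Topology.IsInducing.subtypeVal.closure_eq_preimage_closure_image, Set.image_singleton, hzF.2]
    exact hzcl ⟨w, hw, rfl⟩
  obtain ⟨wF, hwFZ, hwFx⟩ := hxZ
  have hwF : wF = ⟨x, hxs⟩ := Subtype.ext hwFx
  subst hwF
  have hzx : zF ⤳ ⟨x, hxs⟩ := specializes_iff_mem_closure.mpr (hZcl ▸ hwFZ)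
  obtain ⟨wz, hwz⟩ : ∃ c, e₀ c = zF := by
    refine hrange.ge ?_
    exact hzx.mem_open ((U.2).preimage continuous_subtype_val) hxU
  haveI : wx.asIdeal.IsMaximal := by
    rw [← PrimeSpectrum.isClosed_singleton_iff_isMaximal]
    have h1 : IsClosed (e₀ ⁻¹' {(⟨x, hxs⟩ : F)}) := by
      refine IsClosed.preimage he₀.continuous ?_
      convert hx using 1
      ext w
      exact Subtype.ext_iff
    rwa [← hwx, ← Set.image_singleton, he₀.injective.preimage_image] at h1
  have hCdim : ringKrullDim C ≤ ringKrullDim (C ⧸ wz.asIdeal) := by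
    have h1 : ringKrullDim C ≤ topologicalKrullDim ↥Z := by
      rw [← hdim, ← PrimeSpectrum.topologicalKrullDim_eq_ringKrullDim]
      refine le_trans ?_ (le_of_eq hW)
      refine (GrothLib.Dim.IsEmbedding.topologicalKrullDim_eq he₀ rfl).le.trans ?_
      refine (Topology.IsEmbedding.inclusion ?_).isInducing.topologicalKrullDim_le
      rw [hrange]
      intro w hw
      exact (Set.ext_iff.mp hWW' w).mp (hUsub hw).1
    refine h1.trans (le_of_eq ?_)
    rw [← dim_inter_eq f s Z hZc hZi (Subtype.val ⁻¹' (U : Set X)) (U.2.preimage continuous_subtype_val)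
      ⟨_, hwFZ, hxU⟩, ← PrimeSpectrum.topologicalKrullDim_eq_ringKrullDim]
    symm
    refine GrothLib.Dim.IsEmbedding.topologicalKrullDim_eq
      (f := fun q => e₀ (PrimeSpectrum.comap (Ideal.Quotient.mk wz.asIdeal) q))
      (he₀.comp (PrimeSpectrum.isClosedEmbedding_comap_of_surjective _ _ Ideal.Quotient.mk_surjective).isEmbedding) ?_
    have hr : Set.range (PrimeSpectrum.comap (Ideal.Quotient.mk wz.asIdeal) : PrimeSpectrum (C ⧸ wz.asIdeal) → PrimeSpectrum C) = closure {wz} :=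
      (range_comap_of_surjective _ _ Ideal.Quotient.mk_surjective).trans
        ((congrArg (fun J : Ideal C => PrimeSpectrum.zeroLocus (J : Set C))
          (Ideal.mk_ker (I := wz.asIdeal))).trans (PrimeSpectrum.closure_singleton wz).symm)
    rw [Set.range_comp' e₀, hr, he₀.isInducing.closure_eq_preimage_closure_image, Set.image_preimage_eq_inter_range,
      Set.image_singleton, hwz, ← hZcl, hrange]
  -- the cut
  obtain ⟨d, b, hbx, hgen, hqf, hqfY⟩ := exists_cut p wx.asIdeal wz.asIdeal hCdim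
  have hle : wz.asIdeal ≤ wx.asIdeal := (PrimeSpectrum.le_iff_specializes wz wx).mpr
    (he₀.isInducing.specializes_iff.mp (by rw [hwz, hwx]; exact hzx))
  let A : Type u := B ⧸ Ideal.span (Set.range b)
  haveI : Algebra.FinitePresentation R A :=
    Algebra.FinitePresentation.quotient ⟨(Set.finite_range b).toFinset, by simp⟩
  let qx : PrimeSpectrum B := (ε.symm wx).1
  have hbq : Ideal.span (Set.range b) ≤ qx.asIdeal := Ideal.span_le.mpr (by rintro _ ⟨i, rfl⟩; exact hbx i)
  let y₀ : PrimeSpectrum A := ⟨qx.asIdeal.map (Ideal.Quotient.mk _),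
    Ideal.map_isPrime_of_surjective Ideal.Quotient.mk_surjective (by rwa [Ideal.mk_ker])⟩
  have hy₀ : y₀.asIdeal.comap (Ideal.Quotient.mk _) = qx.asIdeal :=
    Ideal.ext fun w => Ideal.mem_quotient_iff_mem hbq
  haveI := y₀.isPrime
  have hqy : Algebra.QuasiFiniteAt R y₀.asIdeal := hqfY y₀ hy₀
  let q₀ : Spec (CommRingCat.of A) ⟶ Spec (CommRingCat.of B) :=
    Spec.map (CommRingCat.ofHom (Ideal.Quotient.mk (Ideal.span (Set.range b))))
  haveI : IsClosedImmersion q₀ := IsClosedImmersion.spec_of_surjective _ Ideal.Quotient.mk_surjective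
  let c := q₀ ≫ hU.fromSpec
  have hcf : c ≫ f = Spec.map (CommRingCat.ofHom (algebraMap R A)) ≫ hV.fromSpec := by
    rw [Category.assoc, sq, ← Category.assoc, ← Spec.map_comp]
    rfl
  have hcy : c y₀ = x := by
    change hU.fromSpec (PrimeSpectrum.comap (Ideal.Quotient.mk _) y₀) = x
    rw [show PrimeSpectrum.comap (Ideal.Quotient.mk _) y₀ = qx from PrimeSpectrum.ext hy₀]
    exact congrArg Subtype.val hwx
  refine ⟨Spec (CommRingCat.of A), c, y₀, hcy,
    GrothLib.BrnchNhd.residueFieldMap_bijective_of_preimmersion c y₀, ?_, ?_, ?_⟩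
  · rw [hcf]
    haveI : LocallyOfFinitePresentation (Spec.map (CommRingCat.ofHom (algebraMap R A))) :=
      (HasRingHomProperty.Spec_iff (P := @LocallyOfFinitePresentation)).mpr
        (RingHom.finitePresentation_algebraMap.mpr inferInstance)
    infer_instance
  · rw [hcf]
    exact @quasiFiniteAt_of_algebra S R A _ _ _ _ hV.fromSpec _ y₀ hqy
  · intro V₀ _ _ _ a ha
    have hran : Set.range a ⊆ Set.range hV.fromSpec := by
      rintro _ ⟨w, rfl⟩
      refine hV.range_fromSpec.ge ?_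
      refine ((IsLocalRing.specializes_closedPoint (R := V₀) w).map a.continuous).mem_open V.2 ?_
      rw [ha]; exact hsV
    obtain ⟨aR, haR⟩ := Spec.map_surjective (IsOpenImmersion.lift hV.fromSpec a hran)
    letI : Algebra R V₀ := aR.hom.toAlgebra
    have haV : a = Spec.map (CommRingCat.ofHom (algebraMap R V₀)) ≫ hV.fromSpec := by
      rw [← IsOpenImmersion.lift_fac hV.fromSpec a hran, ← haR]
      rfl
    subst haV
    have hVp₀ : (IsLocalRing.maximalIdeal V₀).comap (algebraMap R V₀) = p := by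
      have h1 : hV.fromSpec (PrimeSpectrum.comap (algebraMap R V₀) (IsLocalRing.closedPoint V₀)) = hV.fromSpec pp :=
        ha.trans hpp.symm
      exact congrArg PrimeSpectrum.asIdeal (hV.fromSpec.isOpenEmbedding.injective h1)
    let C' := C ⧸ wz.asIdeal
    let φ : B →ₐ[R] C' := ((Ideal.Quotient.mkₐ p.ResidueField wz.asIdeal).restrictScalars R).comp
      Algebra.TensorProduct.includeRight
    let Qx' : Ideal C' := wx.asIdeal.map (Ideal.Quotient.mk wz.asIdeal)
    haveI : Qx'.IsPrime := Ideal.map_isPrime_of_surjective Ideal.Quotient.mk_surjective (by rwa [Ideal.mk_ker])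
    have hQx' : Qx'.comap φ.toRingHom = qx.asIdeal :=
      Ideal.ext fun w => Ideal.mem_quotient_iff_mem hle
    have hgen' : Function.Injective (MvPolynomial.aeval (R := p.ResidueField) fun i => φ (b i)) := by
      refine (injective_iff_map_eq_zero _).mpr fun P hP => hgen P ?_
      rw [← Ideal.Quotient.eq_zero_iff_mem]
      refine Eq.trans ?_ hP
      clear hP
      induction P using MvPolynomial.induction_on with
      | C a => rw [MvPolynomial.aeval_C, MvPolynomial.aeval_C]; rfl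
      | add a c ha hc => rw [map_add, map_add, map_add, ha, hc]
      | mul_X a i ha => rw [map_mul, map_mul, map_mul, ha, MvPolynomial.aeval_X, MvPolynomial.aeval_X]; rfl
    have hqf' : letI : Algebra (MvPolynomial (Fin d) R) B := (MvPolynomial.aeval b).toRingHom.toAlgebra;
        Algebra.QuasiFiniteAt (MvPolynomial (Fin d) R) (Qx'.comap φ.toRingHom) := by
      simp only [hQx']
      exact hqf
    have hker : ∀ w : B, φ w = 0 ↔ (1 : p.ResidueField) ⊗ₜ[R] w ∈ wz.asIdeal :=
      fun w => Ideal.Quotient.eq_zero_iff_mem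
    have key : ∀ (V' : Type u) [CommRing V'] [IsDomain V'] [ValuationRing V'] [Algebra R V'],
        (IsLocalRing.maximalIdeal V').comap (algebraMap R V') = p → ∀ Q : Ideal (V' ⊗[R] B), Q.IsPrime →
        Q.comap Algebra.TensorProduct.includeRight.toRingHom = RingHom.ker φ.toRingHom →
        Q.comap (algebraMap V' (V' ⊗[R] B)) = IsLocalRing.maximalIdeal V' →
        ∃ Q' : Ideal (V' ⊗[R] B), Q'.IsPrime ∧ Q' ≤ Q ∧ Q'.comap (algebraMap V' (V' ⊗[R] B)) = ⊥ := by
      intro V' _ _ _ _ _ Q hQ hQB hQV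
      have hjz : hU.fromSpec (ε.symm wz).1 = z := (congrArg Subtype.val hwz).trans hzF.2
      exact @exists_generic_le X S f R B _ _ _ hU.fromSpec _ hV.fromSpec _ sq (ε.symm wz).1
        (hjz.symm ▸ hopen) V' _ _ _ _ Q hQ (hQB.trans (Ideal.ext fun w => hker w)) hQV
    obtain ⟨Qs, Qt, hs', ht', hst, htB, htV, hsV', hsb⟩ := @exists_prime_over_valuation R B _ _ _ _ d b p _ C'
      (Ideal.Quotient.commRing wz.asIdeal) _ _ _ _ φ Qx' _ (fun i => Ideal.mem_map_of_mem _ (hbx i)) hgen'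
      hqf' key V₀ _ _ _ _ hVp₀
    obtain ⟨m, hmo, hm1, hm2⟩ := exists_chartMap f hU.fromSpec hV.fromSpec sq V₀
    let a := Spec.map (CommRingCat.ofHom (algebraMap R V₀)) ≫ hV.fromSpec
    let J : pullback (c ≫ f) a ⟶ pullback f a :=
      pullback.map (c ≫ f) a f a c (𝟙 _) (𝟙 _) (Category.comp_id _) ((Category.comp_id _).trans (Category.id_comp _).symm)
    have hJ2 : J ≫ pullback.snd f a = pullback.snd (c ≫ f) a := (pullback.lift_snd _ _ _).trans (Category.comp_id _)
    have hJ1 : J ≫ pullback.fst f a = pullback.fst (c ≫ f) a ≫ c := pullback.lift_fst _ _ _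
    have hJP : IsPullback J (pullback.fst (c ≫ f) a) (pullback.fst f a) c := by
      refine IsPullback.of_right ?_ hJ1 (IsPullback.of_hasPullback f a).flip
      rw [hJ2]
      exact (IsPullback.of_hasPullback (c ≫ f) a).flip
    haveI : IsPreimmersion J := MorphismProperty.of_isPullback (P := @IsPreimmersion) hJP.flip inferInstance
    have hQsQt : ∀ Q : PrimeSpectrum (V₀ ⊗[R] B), Qs ≤ Q.asIdeal → ∃ w : ↑(pullback (c ≫ f) a), J w = m Q := by
      intro Q hQ
      have hb' : Ideal.span (Set.range b) ≤ Q.asIdeal.comap Algebra.TensorProduct.includeRight.toRingHom :=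
        Ideal.span_le.mpr (by rintro _ ⟨i, rfl⟩; exact hQ (hsb i))
      have h1 : pullback.fst f a (m Q) ∈ Set.range c := by
        refine ⟨(⟨(Q.asIdeal.comap Algebra.TensorProduct.includeRight.toRingHom).map (Ideal.Quotient.mk _),
          Ideal.map_isPrime_of_surjective Ideal.Quotient.mk_surjective (by rwa [Ideal.mk_ker])⟩ : PrimeSpectrum A), ?_⟩
        rw [← Scheme.Hom.comp_apply m, hm1]
        refine congrArg hU.fromSpec (PrimeSpectrum.ext ?_)
        exact Ideal.ext fun w => Ideal.mem_quotient_iff_mem hb'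
      obtain ⟨y', hy'⟩ := h1
      obtain ⟨w, hw1, hw2⟩ := Scheme.exists_preimage_of_isPullback hJP (m Q) y' hy'.symm
      exact ⟨w, hw1⟩
    let Qsp : PrimeSpectrum (V₀ ⊗[R] B) := ⟨Qs, hs'⟩
    let Qtp : PrimeSpectrum (V₀ ⊗[R] B) := ⟨Qt, ht'⟩
    obtain ⟨w₁, hw₁⟩ := hQsQt Qsp le_rfl
    obtain ⟨w₀, hw₀⟩ := hQsQt Qtp hst
    refine ⟨w₀, w₁, ?_, ?_, ?_, ?_⟩
    · rw [← J.isEmbedding.isInducing.specializes_iff, hw₁, hw₀]
      exact ((PrimeSpectrum.le_iff_specializes Qsp Qtp).mp hst).map m.continuous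
    · have h1 : c (pullback.fst (c ≫ f) a w₀) = c y₀ := by
        rw [← Scheme.Hom.comp_apply, ← hJ1, Scheme.Hom.comp_apply, hw₀, ← Scheme.Hom.comp_apply m, hm1, hcy]
        refine Eq.trans (congrArg hU.fromSpec (PrimeSpectrum.ext (htB.trans hQx') :
          PrimeSpectrum.comap (Algebra.TensorProduct.includeRight.toRingHom) Qtp = qx)) ?_
        exact congrArg Subtype.val hwx
      exact c.isEmbedding.injective h1
    · rw [← hJ2, Scheme.Hom.comp_apply, hw₀, ← Scheme.Hom.comp_apply m, hm2]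
      exact PrimeSpectrum.ext htV
    · rw [← hJ2, Scheme.Hom.comp_apply, hw₁, ← Scheme.Hom.comp_apply m, hm2]
      exact PrimeSpectrum.ext hsV'

end GrothLib.QuasiSec
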