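import Groth.Agent.Lib.QuasiSec.Main
import Groth.Agent.Lib.Weight.FinitePart
import Groth.Agent.Lib.GrpdQuot.InvariantOpen
import Groth.Agent.Lib.HTop.Val
import Groth.Agent.Lib.Weight.Multiplicity
import Groth.Agent.Lib.Weight.FiniteParts
import Mathlib.RingTheory.Spectrum.Prime.ConstructibleSet
import Mathlib.AlgebraicGeometry.Morphisms.QuasiFinite

/-!
Quasi-sections through closed points of fibres (EGA IV 14.5.3 with 18.12.1).
-/

universe u

open CategoryTheory CategoryTheory.Limits AlgebraicGeometry TopologicalSpace Topology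

noncomputable section

namespace GrothLib.QuasiSec

/-- A constructible subset of the spectrum containing all generizations of a point is a neighbourhood. -/
theorem mem_nhds_of_isConstructible {R : Type u} [CommRing R] {T : Set (PrimeSpectrum R)}
    (hT : IsConstructible T) (u : PrimeSpectrum R) (h : ∀ q, q ⤳ u → q ∈ T) : T ∈ 𝓝 u := by
  by_contra hn
  have hu : u ∈ closure Tᶜ := by
    rw [closure_compl]
    exact fun hi => hn (mem_interior_iff_mem_nhds.mp hi)
  obtain ⟨B, _, φ, hφ⟩ := PrimeSpectrum.exists_range_eq_of_isConstructible hT.compl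
  rw [← hφ, ← Set.image_univ] at hu
  obtain ⟨b, -, hb⟩ := GrothLib.GrpdQuot.exists_specializes_of_mem_closure_comap φ _ isClosed_univ u hu
  have hbT : PrimeSpectrum.comap φ b ∈ Tᶜ := hφ.le ⟨b, rfl⟩
  exact hbT (h _ hb)

/-- An image of a quasi-compact morphism locally of finite presentation containing all generizations
of a point is a neighbourhood of it. -/
theorem range_mem_nhds {P U : Scheme.{u}} (π : P ⟶ U) [LocallyOfFinitePresentation π] [QuasiCompact π]
    (u : U) (h : ∀ q, q ⤳ u → q ∈ Set.range π) : Set.range π ∈ 𝓝 u := by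
  obtain ⟨_, ⟨(N : U.Opens), hN, rfl⟩, huN, -⟩ := U.isBasis_affineOpens.exists_subset_of_mem_open
    (Set.mem_univ u) isOpen_univ
  have hN : IsAffineOpen N := hN
  obtain ⟨w, hw⟩ : ∃ w, hN.fromSpec w = u := hN.range_fromSpec.ge huN
  have hc : IsConstructible (hN.fromSpec ⁻¹' Set.range π) := by
    have := ((Scheme.Hom.isLocallyConstructible_image π
      (IsLocallyConstructible.univ)).preimage_of_isOpenEmbedding hN.fromSpec.isOpenEmbedding).isConstructible
    rwa [Set.image_univ] at this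
  have := mem_nhds_of_isConstructible hc w (fun q hq => h _ (hw ▸ hq.map hN.fromSpec.continuous))
  rw [← hw]
  refine Filter.mem_of_superset (hN.fromSpec.isOpenEmbedding.isOpenMap.image_mem_nhds this) ?_
  exact Set.image_preimage_subset _ _

/-- **Quasi-sections** (EGA IV 14.5.3 with 18.12.1). -/
theorem exists_finite_quasiSection {X S : Scheme.{u}} (f : X ⟶ S) [LocallyOfFinitePresentation f] (s : S) (x : X)
    (hxs : f.base x = s) (hx : IsClosed ((Subtype.val : ↥(f.base ⁻¹' {s}) → X) ⁻¹' {x}))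
    (Z : Set ↥(f.base ⁻¹' {s})) (hZ : Z ∈ irreducibleComponents ↥(f.base ⁻¹' {s})) (hxZ : x ∈ Subtype.val '' Z)
    (z : X) (hz : z ∈ Subtype.val '' Z ∧ Subtype.val '' Z ⊆ closure {z}) (hopen : EGA43.IsUnivOpenAt f z)
    (hdim : FlatMor.localDim ↥(f.base ⁻¹' {s}) ⟨x, hxs⟩ = topologicalKrullDim ↥Z) :
    ∃ (S' S'' : Scheme.{u}) (_ : IsAffine S') (w : S' ⟶ S) (π : S'' ⟶ S') (h : S'' ⟶ X),
      Etale w ∧ IsFinite π ∧ Surjective π ∧ LocallyOfFinitePresentation π ∧ h ≫ f = π ≫ w ∧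
      ∃ s'' : S'', (π ≫ w).base ⁻¹' {s} = {s''} ∧ h.base s'' = x ∧ IsIso (h.residueFieldMap s'') := by
  obtain ⟨Y, c, y, hcy, hcb, hlfp, hqf, hval⟩ := exists_quasiFinite_cut f s x hxs hx Z hZ hxZ z hz hopen hdim
  let g := c ≫ f
  have hgy : g y = s := by
    change f (c y) = s
    rw [hcy]; exact hxs
  haveI : LocallyOfFinitePresentation g := hlfp
  obtain ⟨U, gU, u, hnb, V, v, hvV, hfin, hvu, huniq, hvy, hvb⟩ :=
    GrothLib.Weight.exists_finite_part g y hqf
  have hgUu : gU u = g y := hnb.base_eq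
  haveI : Etale gU := hnb.etale
  let π₀ := V.ι ≫ pullback.snd g gU
  haveI : IsFinite π₀ := hfin
  haveI : LocallyOfFinitePresentation (pullback.snd g gU) := MorphismProperty.pullback_snd g gU hlfp
  haveI : LocallyOfFinitePresentation π₀ := inferInstance
  obtain ⟨v₀, -, -, hv₀⟩ := GrothLib.Weight.existsUnique_point_over g gU u hnb.residue_bijective y hgUu.symm
  have hgen : ∀ t, t ⤳ u → t ∈ Set.range π₀ := by
    intro t ht
    obtain ⟨W, _, _, ℓ, hℓg, hℓc⟩ := GrothLib.HTop.exists_valuationRing_map ht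
    let a : Spec (CommRingCat.of W) ⟶ S := ℓ ≫ gU
    obtain ⟨w₀, w₁, hw, hwy, hwc, hwg⟩ := hval W a (by
      change gU (ℓ (IsLocalRing.closedPoint W)) = s
      rw [show ℓ (IsLocalRing.closedPoint W) = u from hℓc, hgUu, hgy])
    let M : pullback g a ⟶ pullback g gU :=
      pullback.map g a g gU (𝟙 _) ℓ (𝟙 _) (by simp) (by simp [a])
    have hM₁ : M ≫ pullback.fst g gU = pullback.fst g a := (pullback.lift_fst _ _ _).trans (Category.comp_id _)
    have hM₂ : M ≫ pullback.snd g gU = pullback.snd g a ≫ ℓ := pullback.lift_snd _ _ _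
    have h0 : M w₀ = v := by
      refine (hv₀ _ ?_ ?_).trans (hv₀ v hvy hvu).symm
      · rw [← Scheme.Hom.comp_apply, hM₁]; exact hwy
      · rw [← Scheme.Hom.comp_apply, hM₂, Scheme.Hom.comp_apply, hwc]; exact hℓc
    have h1 : M w₁ ∈ V := (h0 ▸ hw.map M.continuous).mem_open V.2 hvV
    refine ⟨⟨M w₁, h1⟩, ?_⟩
    change (V.ι ≫ pullback.snd g gU) ⟨M w₁, h1⟩ = t
    rw [Scheme.Hom.comp_apply, Scheme.Opens.ι_apply, ← Scheme.Hom.comp_apply, hM₂, Scheme.Hom.comp_apply, hwg]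
    exact hℓg
  obtain ⟨T, hTsub, hTo, huT⟩ := mem_nhds_iff.mp (range_mem_nhds π₀ u hgen)
  -- isolate `u` in its fibre
  obtain ⟨O, hO, hOu⟩ : ∃ O : Set U, IsOpen O ∧ O ∩ gU ⁻¹' {s} = {u} := by
    have hu : u ∈ gU ⁻¹' {s} := by rw [Set.mem_preimage, hgUu, hgy]; rfl
    haveI : LocallyQuasiFinite gU := GrothLib.Weight.locallyQuasiFinite_of_formallyUnramified gU
    haveI := (gU.isDiscrete_preimage_singleton s).1
    obtain ⟨O, hO, hOeq⟩ := Topology.IsInducing.subtypeVal.isOpen_iff.mp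
      (isOpen_discrete ({⟨u, hu⟩} : Set ↥(gU ⁻¹' {s})))
    refine ⟨O, hO, Set.ext fun w => ⟨fun hw => ?_, fun hw => ?_⟩⟩
    · exact congrArg Subtype.val ((Set.ext_iff.mp hOeq ⟨w, hw.2⟩).mp hw.1 : (⟨w, hw.2⟩ : ↥(gU ⁻¹' {s})) = ⟨u, hu⟩)
    · rw [Set.mem_singleton_iff] at hw
      subst hw
      exact ⟨(Set.ext_iff.mp hOeq ⟨w, hu⟩).mpr rfl, hu⟩
  have huO : u ∈ O := (Set.ext_iff.mp hOu u).mpr rfl |>.1
  obtain ⟨_, ⟨(N : U.Opens), hN, rfl⟩, huN, hNsub⟩ := U.isBasis_affineOpens.exists_subset_of_mem_open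
    (show u ∈ T ∩ O from ⟨huT, huO⟩) (hTo.inter hO)
  let S'' : Scheme.{u} := (π₀ ⁻¹ᵁ N).toScheme
  let π : S'' ⟶ N.toScheme := π₀ ∣_ N
  haveI : IsAffine N.toScheme := hN
  haveI hπf : IsFinite π := IsZariskiLocalAtTarget.restrict hfin N
  haveI : LocallyOfFinitePresentation π :=
    IsZariskiLocalAtTarget.restrict (P := @LocallyOfFinitePresentation) inferInstance N
  have hπs : Surjective π := ⟨fun n => by
    obtain ⟨w, hw⟩ := hTsub (hNsub n.2).1
    refine ⟨⟨w, show π₀ w ∈ N from hw ▸ n.2⟩, Subtype.ext ?_⟩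
    rw [morphismRestrict_base]
    exact hw⟩
  have hvN : π₀ ⟨v, hvV⟩ ∈ N := by
    change pullback.snd g gU v ∈ N
    rw [hvu]; exact huN
  let s'' : S'' := ⟨⟨v, hvV⟩, hvN⟩
  let k : S'' ⟶ pullback g gU := (π₀ ⁻¹ᵁ N).ι ≫ V.ι
  let h : S'' ⟶ X := k ≫ pullback.fst g gU ≫ c
  have hks : k s'' = v := rfl
  refine ⟨N, S'', inferInstance, N.ι ≫ gU, π, h, inferInstance, hπf, hπs, inferInstance, ?_, s'', ?_, ?_, ?_⟩
  · simp only [h, k, π, Category.assoc, morphismRestrict_ι_assoc]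
    rw [show c ≫ f = g from rfl, pullback.condition]
    rfl
  · ext w
    have hw : (π ≫ N.ι ≫ gU) w = gU (π₀ w.1) := by
      rw [← Category.assoc, morphismRestrict_ι, Category.assoc]
      rfl
    change (π ≫ N.ι ≫ gU) w = s ↔ w = s''
    rw [hw]
    refine ⟨fun hws => ?_, fun hws => ?_⟩
    · have hu' : π₀ w.1 = u := (Set.ext_iff.mp hOu _).mp ⟨(hNsub w.2).2, hws⟩
      exact Subtype.ext (Subtype.ext (huniq w.1.1 w.1.2 hu'))
    · subst hws
      change gU (pullback.snd g gU v) = s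
      rw [hvu, hgUu, hgy]
  · change c (pullback.fst g gU v) = x
    rw [hvy, hcy]
  · refine (ConcreteCategory.isIso_iff_bijective _).mpr ?_
    refine GrothLib.Weight.residueFieldMap_bijective_of_comp k _ s''
      (GrothLib.BrnchNhd.residueFieldMap_bijective_of_preimmersion k s'') ?_
    refine GrothLib.Weight.residueFieldMap_bijective_of_comp _ c _ hvb ?_
    rw [hks, hvy]
    exact hcb

end GrothLib.QuasiSec
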