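import Groth.Agent.Lib.QuasiSec.Finite
import Groth.Agent.Lib.DiagGrp.KernelFP
import Mathlib.AlgebraicGeometry.AffineSpace

/-!
Universal openness of locally quasi-finite morphisms to affine spaces (EGA IV 14.4.5 style): every
generization lifts, by valuation rings.
-/

universe u

open CategoryTheory CategoryTheory.Limits AlgebraicGeometry TopologicalSpace Topology
open TensorProduct MvPolynomial

noncomputable section

namespace GrothLib.QuasiSec

variable {X S : Scheme.{u}}

/-- The values of the coordinates at a morphism from an affine scheme to the affine space. -/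
def coordVal {n : Type} {A : Type u} [CommRing A]
    (k : Spec (CommRingCat.of A) ⟶ 𝔸(ULift.{u} n; S)) (i : n) : A :=
  (Scheme.ΓSpecIso (CommRingCat.of A)).hom (k.appTop (AffineSpace.coord S ⟨i⟩))

theorem coordVal_specMap {n : Type} {A A' : Type u} [CommRing A] [CommRing A'] (φ : A →+* A')
    (k : Spec (CommRingCat.of A) ⟶ 𝔸(ULift.{u} n; S)) (i : n) :
    coordVal (Spec.map (CommRingCat.ofHom φ) ≫ k) i = φ (coordVal k i) := by
  unfold coordVal
  rw [Scheme.Hom.comp_appTop, CommRingCat.comp_apply, ← CommRingCat.comp_apply (Spec.map _).appTop,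
    Scheme.ΓSpecIso_naturality, CommRingCat.comp_apply]
  rfl

theorem hom_ext_of_coordVal {n : Type} {A : Type u} [CommRing A]
    {k k' : Spec (CommRingCat.of A) ⟶ 𝔸(ULift.{u} n; S)}
    (h₁ : k ≫ 𝔸(ULift.{u} n; S) ↘ S = k' ≫ 𝔸(ULift.{u} n; S) ↘ S)
    (h₂ : ∀ i, coordVal k i = coordVal k' i) : k = k' :=
  AffineSpace.hom_ext h₁ fun i =>
    (Scheme.ΓSpecIso (CommRingCat.of A)).commRingCatIsoToRingEquiv.injective (h₂ i.down)

/-- A morphism locally of finite presentation is universally open at a point if, after base change to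
valuation rings, the points of the closed fibre over it generize to the generic fibre. -/
theorem isUnivOpenAt_of_valuative {X Y : Scheme.{u}} (f : X ⟶ Y) [LocallyOfFinitePresentation f] (x : X)
    (h : ∀ (W : Type u) [CommRing W] [IsDomain W] [ValuationRing W] (a : Spec (CommRingCat.of W) ⟶ Y)
      (w₀ : ↑(pullback f a)), pullback.fst f a w₀ = x →
      pullback.snd f a w₀ = IsLocalRing.closedPoint W →
      ∃ w₁ : ↑(pullback f a), w₁ ⤳ w₀ ∧
        pullback.snd f a w₁ = (⟨⊥, Ideal.isPrime_bot⟩ : PrimeSpectrum W)) :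
    EGA43.IsUnivOpenAt f x := by
  intro Y' g x' hx' N hN
  let r := pullback.snd f g
  obtain ⟨N', hN'N, hN', hxN'⟩ := mem_nhds_iff.mp hN
  obtain ⟨_, ⟨(A : Y'.Opens), hA, rfl⟩, hxA, -⟩ := Y'.isBasis_affineOpens.exists_subset_of_mem_open
    (Set.mem_univ (r x')) isOpen_univ
  obtain ⟨_, ⟨(O : (pullback f g).Opens), hO, rfl⟩, hxO, hOsub⟩ :=
    (pullback f g).isBasis_affineOpens.exists_subset_of_mem_open
      (show x' ∈ N' ∩ r ⁻¹ᵁ A from ⟨hxN', hxA⟩) (hN'.inter (r ⁻¹ᵁ A).2)
  have hA : IsAffineOpen A := hA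
  have hO : IsAffineOpen O := hO
  haveI : IsAffine A := hA
  haveI : IsAffine O := hO
  have hOA : O ≤ r ⁻¹ᵁ A := fun w hw => (hOsub hw).2
  let π : (O : Scheme.{u}) ⟶ (A : Scheme.{u}) := r.resLE A O hOA
  haveI : LocallyOfFinitePresentation r := inferInstance
  haveI : LocallyOfFinitePresentation π := inferInstance
  haveI : QuasiCompact π := inferInstance
  have hπ : ∀ w : (O : Scheme.{u}), (π w).1 = r w.1 := fun w => by
    change (π ≫ A.ι) w = (O.ι ≫ r) w
    rw [Scheme.Hom.resLE_comp_ι]
  have hgen : ∀ t, t ⤳ (⟨r x', hxA⟩ : (A : Scheme.{u})) → t ∈ Set.range π := by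
    intro t ht
    have ht' : (t : Y') ⤳ r x' := ht.map continuous_subtype_val
    obtain ⟨W, _, _, ℓ, hℓg, hℓc⟩ := GrothLib.HTop.exists_valuationRing_map ht'
    obtain ⟨T₀, hT₀1, hT₀2⟩ := Scheme.Pullback.exists_preimage_pullback (f := r) (g := ℓ) x'
      (IsLocalRing.closedPoint W) hℓc.symm
    let e := pullbackLeftPullbackSndIso f g ℓ
    obtain ⟨w₁, hw₁, hw₁g⟩ := h W (ℓ ≫ g) (e.hom T₀)
      (by
        rw [← Scheme.Hom.comp_apply, pullbackLeftPullbackSndIso_hom_fst, Scheme.Hom.comp_apply, hT₀1]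
        exact hx')
      (by
        rw [← Scheme.Hom.comp_apply, pullbackLeftPullbackSndIso_hom_snd]
        exact hT₀2)
    have hT : e.inv w₁ ⤳ T₀ := by
      have h1 := hw₁.map e.inv.continuous
      rwa [show e.inv (e.hom T₀) = T₀ by
        rw [← Scheme.Hom.comp_apply, Iso.hom_inv_id, Scheme.Hom.id_base, TopCat.id_app]] at h1
    have hf : pullback.fst r ℓ (e.inv w₁) ⤳ x' := hT₀1 ▸ hT.map (pullback.fst r ℓ).continuous
    refine ⟨⟨_, hf.mem_open O.2 hxO⟩, Subtype.ext ((hπ _).trans ?_)⟩
    change r (pullback.fst r ℓ (e.inv w₁)) = t.1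
    rw [← Scheme.Hom.comp_apply (pullback.fst r ℓ) r, pullback.condition, Scheme.Hom.comp_apply,
      ← Scheme.Hom.comp_apply e.inv, pullbackLeftPullbackSndIso_inv_snd_snd, hw₁g]
    exact hℓg
  have h1 := A.ι.isOpenEmbedding.isOpenMap.image_mem_nhds (range_mem_nhds π ⟨r x', hxA⟩ hgen)
  refine Filter.mem_of_superset h1 ?_
  rintro _ ⟨_, ⟨w, rfl⟩, rfl⟩
  exact ⟨w.1, hN'N (hOsub w.2).1, (hπ w).symm⟩

/-- Functions giving a quasi-finite map to the affine space are algebraically independent on a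
subvariety of a fibre of at least that dimension. -/
theorem injective_aeval_of_le_ringKrullDim {R B : Type u} [CommRing R] [CommRing B] [Algebra R B]
    {d : ℕ} (b : Fin d → B)
    (hqf : letI : Algebra (MvPolynomial (Fin d) R) B := (aeval b).toRingHom.toAlgebra
      Algebra.QuasiFinite (MvPolynomial (Fin d) R) B)
    (p : Ideal R) [p.IsPrime] {C' : Type u} [CommRing C'] [IsDomain C'] [Algebra p.ResidueField C']
    [Algebra R C'] [IsScalarTower R p.ResidueField C'] (φ : B →ₐ[R] C')
    (hφ : Function.Injective (PrimeSpectrum.comap φ.toRingHom))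
    (hdim : (d : WithBot ℕ∞) ≤ ringKrullDim C') :
    Function.Injective (aeval (R := p.ResidueField) fun i => φ (b i)) := by
  let κ := p.ResidueField
  let f : MvPolynomial (Fin d) κ →ₐ[κ] C' := aeval fun i => φ (b i)
  refine (injective_iff_map_eq_zero _).mpr fun P hP => by_contra fun hP0 => ?_
  letI : Algebra (MvPolynomial (Fin d) R) B := (aeval b).toRingHom.toAlgebra
  haveI := hqf
  let A := MvPolynomial (Fin d) κ ⧸ Ideal.span {P}
  let f' : A →+* C' := Ideal.Quotient.lift _ f.toRingHom (by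
    intro a ha
    obtain ⟨c, rfl⟩ := Ideal.mem_span_singleton.mp ha
    change f (P * c) = 0
    rw [map_mul, show f P = 0 from hP, zero_mul])
  have hsquare : φ.toRingHom.comp (algebraMap (MvPolynomial (Fin d) R) B) =
      f'.comp ((Ideal.Quotient.mk _).comp (MvPolynomial.map (algebraMap R κ))) := by
    refine MvPolynomial.ringHom_ext (fun r => ?_) fun i => ?_
    · change φ (aeval b (C r)) = f (MvPolynomial.map (algebraMap R κ) (C r))
      simp only [aeval_C, map_C, AlgHom.commutes, f]
      exact IsScalarTower.algebraMap_apply R κ C' r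
    · change φ (aeval b (X i)) = f (MvPolynomial.map (algebraMap R κ) (X i))
      simp [f]
  have hmono : StrictMono (PrimeSpectrum.comap f') := by
    intro q q' hqq'
    refine lt_of_le_of_ne (Ideal.comap_mono hqq'.le) fun he => hqq'.ne (hφ (PrimeSpectrum.ext ?_))
    refine Algebra.QuasiFinite.eq_of_le_of_under_eq (R := MvPolynomial (Fin d) R)
      (q.asIdeal.comap φ.toRingHom) (q'.asIdeal.comap φ.toRingHom) (Ideal.comap_mono hqq'.le) ?_
    change (q.asIdeal.comap φ.toRingHom).comap _ = (q'.asIdeal.comap φ.toRingHom).comap _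
    rw [Ideal.comap_comap, Ideal.comap_comap, hsquare]
    rw [← Ideal.comap_comap, ← Ideal.comap_comap (I := q'.asIdeal)]
    exact congrArg (Ideal.comap ((Ideal.Quotient.mk _).comp (MvPolynomial.map (algebraMap R κ)))) (congrArg PrimeSpectrum.asIdeal he)
  have h1 : ringKrullDim C' ≤ ringKrullDim A := Order.krullDim_le_of_strictMono _ hmono
  have h2 : ringKrullDim A + 1 ≤ (d : WithBot ℕ∞) := by
    refine (ringKrullDim_quotient_succ_le_of_nonZeroDivisor (mem_nonZeroDivisors_of_ne_zero hP0)).trans ?_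
    rw [MvPolynomial.ringKrullDim_of_isNoetherianRing, ringKrullDim_eq_zero_of_field, zero_add,
      Nat.card_eq_fintype_card, Fintype.card_fin]
  exact absurd ((add_le_add (hdim.trans h1) le_rfl).trans h2) (by
    rw [not_le]
    exact_mod_cast Nat.lt_succ_self d)

/-- **Universal openness of quasi-finite morphisms to affine spaces**: if the composite to the base
is universally open at the generic point of an `n`-dimensional irreducible closed subset of the
fibre, the morphism to the `n`-space is universally open at the points of that subset. -/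
theorem isUnivOpenAt_toAffineSpace (f : X ⟶ S) [LocallyOfFinitePresentation f]
    (s : S) (x : X) (hxs : f.base x = s) (n : ℕ)
    (uu : X ⟶ 𝔸(ULift.{u} (Fin n); S)) [LocallyQuasiFinite uu]
    (hu : uu ≫ (𝔸(ULift.{u} (Fin n); S) ↘ S) = f)
    (Z : Set ↥(f.base ⁻¹' {s})) (hZc : IsClosed Z) (hZi : IsIrreducible Z)
    (hxZ : x ∈ Subtype.val '' Z)
    (z : X) (hz : z ∈ Subtype.val '' Z ∧ Subtype.val '' Z ⊆ closure {z})
    (hopen : EGA43.IsUnivOpenAt f z) (hdimZ : (n : WithBot ℕ∞) ≤ topologicalKrullDim ↥Z) :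
    EGA43.IsUnivOpenAt uu x := by
  subst hu
  let q := (𝔸(ULift.{u} (Fin n); S) ↘ S)
  let f := uu ≫ q
  let F := ↥(f.base ⁻¹' {s})
  haveI : LocallyOfFinitePresentation uu := GrothLib.DiagGrp.lfp_of_comp_of_lft uu q ‹_› inferInstance
  refine isUnivOpenAt_of_valuative uu x fun W _ _ _ a w₀ hw₀1 hw₀2 => ?_
  have hac : a (IsLocalRing.closedPoint W) = uu x := by
    rw [← hw₀1, ← hw₀2, ← Scheme.Hom.comp_apply, ← pullback.condition, Scheme.Hom.comp_apply]
  obtain ⟨_, ⟨(V : S.Opens), hV, rfl⟩, hsV, -⟩ := S.isBasis_affineOpens.exists_subset_of_mem_open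
    (Set.mem_univ s) isOpen_univ
  obtain ⟨_, ⟨(U : X.Opens), hU, rfl⟩, hxU, hUsub⟩ := X.isBasis_affineOpens.exists_subset_of_mem_open
    (show x ∈ f ⁻¹ᵁ V from by change f.base x ∈ V; rw [hxs]; exact hsV) (f ⁻¹ᵁ V).2
  have hV : IsAffineOpen V := hV
  have hU : IsAffineOpen U := hU
  have hUV : U ≤ f ⁻¹ᵁ V := hUsub
  let R : Type u := Γ(S, V)
  let B : Type u := Γ(X, U)
  let _ : Algebra R B := (f.appLE V U hUV).hom.toAlgebra
  haveI : Algebra.FinitePresentation R B := f.finitePresentation_appLE hV hU hUV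
  have sq : hU.fromSpec ≫ f = Spec.map (CommRingCat.ofHom (algebraMap R B)) ≫ hV.fromSpec :=
    (hV.SpecMap_appLE_fromSpec f hU hUV).symm
  have hfj : ∀ q : PrimeSpectrum B, f (hU.fromSpec q) = hV.fromSpec (PrimeSpectrum.comap (algebraMap R B) q) :=
    fun q => (Scheme.Hom.comp_apply hU.fromSpec f q).symm.trans (congrArg (fun k => k q) (congrArg (fun k : _ ⟶ S => (k : _ → S)) sq))
  -- the coordinates on the chart
  let b : Fin n → B := fun i => coordVal (hU.fromSpec ≫ uu) i
  let jA : Spec (CommRingCat.of (MvPolynomial (Fin n) R)) ⟶ 𝔸(ULift.{u} (Fin n); S) :=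
    AffineSpace.homOfVector (Spec.map (CommRingCat.ofHom C) ≫ hV.fromSpec)
      (fun i => (Scheme.ΓSpecIso (CommRingCat.of (MvPolynomial (Fin n) R))).inv (MvPolynomial.X i.down))
  have hjA : Spec.map (CommRingCat.ofHom (R := MvPolynomial (Fin n) R) (S := B) (aeval b).toRingHom) ≫ jA = hU.fromSpec ≫ uu := by
    refine hom_ext_of_coordVal ?_ fun i => ?_
    · rw [Category.assoc, Category.assoc, AffineSpace.homOfVector_over, ← Spec.map_comp_assoc,
        ← CommRingCat.ofHom_comp]
      refine Eq.trans ?_ sq.symm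
      rw [show (aeval b).toRingHom.comp C = algebraMap R B from RingHom.ext fun r => aeval_C b r]
    · refine (coordVal_specMap _ _ i).trans ?_
      have h1 : coordVal jA i = MvPolynomial.X i := by
        unfold coordVal
        rw [AffineSpace.homOfVector_appTop_coord, ← CommRingCat.comp_apply, Iso.inv_hom_id,
          CommRingCat.id_apply]
      rw [h1]
      exact aeval_X b i
  have hqfB : letI : Algebra (MvPolynomial (Fin n) R) B := (aeval b).toRingHom.toAlgebra;
      Algebra.QuasiFinite (MvPolynomial (Fin n) R) B := by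
    haveI : LocallyQuasiFinite (hU.fromSpec ≫ uu) := inferInstance
    have h1 : LocallyQuasiFinite (Spec.map (CommRingCat.ofHom (R := MvPolynomial (Fin n) R) (S := B) (aeval b).toRingHom)) := by
      have h2 : LocallyQuasiFinite (Spec.map (CommRingCat.ofHom (R := MvPolynomial (Fin n) R) (S := B) (aeval b).toRingHom) ≫ jA) := by
        rw [hjA]; infer_instance
      exact LocallyQuasiFinite.of_comp _ jA
    exact (HasRingHomProperty.Spec_iff (P := @LocallyQuasiFinite)).mp h1
  obtain ⟨pp, hpp⟩ : ∃ pp : PrimeSpectrum R, hV.fromSpec pp = s := hV.range_fromSpec.ge hsV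
  let p := pp.asIdeal
  -- the valuation ring over the chart
  have hran : Set.range (a ≫ q) ⊆ Set.range hV.fromSpec := by
    rintro _ ⟨w, rfl⟩
    refine hV.range_fromSpec.ge ?_
    refine ((IsLocalRing.specializes_closedPoint (R := W) w).map (a ≫ q).continuous).mem_open V.2 ?_
    change q (a (IsLocalRing.closedPoint W)) ∈ V
    rw [hac]
    change f.base x ∈ V
    exact hxs ▸ hsV
  obtain ⟨aR, haR⟩ := Spec.map_surjective (IsOpenImmersion.lift hV.fromSpec (a ≫ q) hran)
  letI : Algebra R W := aR.hom.toAlgebra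
  have haV : a ≫ q = Spec.map (CommRingCat.ofHom (algebraMap R W)) ≫ hV.fromSpec := by
    rw [← IsOpenImmersion.lift_fac hV.fromSpec (a ≫ q) hran, ← haR]
    rfl
  have hVp : (IsLocalRing.maximalIdeal W).comap (algebraMap R W) = p := by
    have h1 : hV.fromSpec (PrimeSpectrum.comap (algebraMap R W) (IsLocalRing.closedPoint W)) = hV.fromSpec pp := by
      refine Eq.trans ?_ hpp.symm
      change (Spec.map (CommRingCat.ofHom (algebraMap R W)) ≫ hV.fromSpec) (IsLocalRing.closedPoint W) = _
      rw [← haV]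
      change q (a (IsLocalRing.closedPoint W)) = s
      rw [hac]
      exact hxs
    exact congrArg PrimeSpectrum.asIdeal (hV.fromSpec.isOpenEmbedding.injective h1)
  let t : Fin n → W := coordVal a
  obtain ⟨m, hmo, hm1, hm2⟩ := exists_chartMap f hU.fromSpec hV.fromSpec sq W
  haveI := hmo
  let aS := Spec.map (CommRingCat.ofHom (algebraMap R W)) ≫ hV.fromSpec
  let J : pullback uu a ⟶ pullback f aS :=
    pullback.mapDesc uu a q ≫ (pullback.congrHom rfl haV).hom
  haveI : IsClosedImmersion J := inferInstance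
  have hJ1 : J ≫ pullback.fst f aS = pullback.fst uu a := by
    simp only [J, pullback.mapDesc, pullback.congrHom_hom, Category.assoc]
    erw [pullback.lift_fst, Category.comp_id, pullback.lift_fst, Category.comp_id]
  have hJ2 : J ≫ pullback.snd f aS = pullback.snd uu a := by
    simp only [J, pullback.mapDesc, pullback.congrHom_hom, Category.assoc]
    erw [pullback.lift_snd, Category.comp_id, pullback.lift_snd, Category.comp_id]
  -- the point of the closed fibre, as a field-valued point of the chart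
  let L : Type u := (pullback uu a).residueField w₀
  let ξ : Spec (CommRingCat.of L) ⟶ pullback uu a := (pullback uu a).fromSpecResidueField w₀
  have hξ : ∀ e, ξ e = w₀ := fun e => Scheme.fromSpecResidueField_apply w₀ e
  have hranL : Set.range (ξ ≫ pullback.fst uu a) ⊆ Set.range hU.fromSpec := by
    rintro _ ⟨e, rfl⟩
    refine hU.range_fromSpec.ge ?_
    rw [Scheme.Hom.comp_apply, hξ, hw₀1]
    exact hxU
  obtain ⟨cB, hcB⟩ := Spec.map_surjective (IsOpenImmersion.lift hU.fromSpec (ξ ≫ pullback.fst uu a) hranL)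
  obtain ⟨cV, hcV⟩ := Spec.map_surjective (ξ ≫ pullback.snd uu a)
  have hcB' : Spec.map cB ≫ hU.fromSpec = ξ ≫ pullback.fst uu a := by
    rw [hcB]; exact IsOpenImmersion.lift_fac _ _ _
  have hcomp : cB.hom.comp (algebraMap R B) = cV.hom.comp (algebraMap R W) := by
    have h1 : Spec.map (CommRingCat.ofHom (cB.hom.comp (algebraMap R B))) =
        Spec.map (CommRingCat.ofHom (cV.hom.comp (algebraMap R W))) := by
      rw [← cancel_mono hV.fromSpec, CommRingCat.ofHom_comp, CommRingCat.ofHom_comp, Spec.map_comp,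
        Spec.map_comp, Category.assoc, Category.assoc, ← sq, ← haV, CommRingCat.ofHom_hom,
        CommRingCat.ofHom_hom, ← Category.assoc, hcB', hcV]
      simp only [f, Category.assoc]
      rw [← Category.assoc (pullback.fst uu a), pullback.condition, Category.assoc]
    exact congrArg CommRingCat.Hom.hom (Spec.map_injective h1)
  letI : Algebra R L := (cV.hom.comp (algebraMap R W)).toAlgebra
  let χV : W →ₐ[R] L := { cV.hom with commutes' := fun _ => rfl }
  let χB : B →ₐ[R] L := { cB.hom with commutes' := fun r => RingHom.congr_fun hcomp r }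
  have hχB : Spec.map (CommRingCat.ofHom χB.toRingHom) ≫ hU.fromSpec = ξ ≫ pullback.fst uu a := hcB'
  have hχV' : Spec.map (CommRingCat.ofHom χV.toRingHom) = ξ ≫ pullback.snd uu a := hcV
  let ψA : W ⊗[R] B →ₐ[R] L := Algebra.TensorProduct.lift χV χB fun _ _ => .all _ _
  let ψ : CommRingCat.of (W ⊗[R] B) ⟶ CommRingCat.of L := CommRingCat.ofHom ψA.toRingHom
  have hψm : Spec.map ψ ≫ m = ξ ≫ J := by
    apply pullback.hom_ext
    · rw [Category.assoc, Category.assoc, hm1, hJ1, ← hχB, ← Spec.map_comp_assoc]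
      exact congrArg (Spec.map · ≫ hU.fromSpec) (CommRingCat.hom_ext (RingHom.ext fun c => by
        change ψA (1 ⊗ₜ c) = χB c
        simp [ψA]))
    · rw [Category.assoc, Category.assoc, hm2, hJ2, ← hχV', ← Spec.map_comp]
      exact congrArg Spec.map (CommRingCat.hom_ext (RingHom.ext fun v => by
        change ψA (v ⊗ₜ 1) = χV v
        simp [ψA]))
  have hbt : ∀ i, χB (b i) = χV (t i) := fun i => by
    have h1 : Spec.map (CommRingCat.ofHom χB.toRingHom) ≫ hU.fromSpec ≫ uu =
        Spec.map (CommRingCat.ofHom χV.toRingHom) ≫ a := by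
      rw [← Category.assoc, hχB, hχV', Category.assoc, Category.assoc, pullback.condition]
    have h2 := congrArg (fun k => coordVal k i) h1
    rwa [coordVal_specMap, coordVal_specMap] at h2
  let cL : Spec (CommRingCat.of L) := IsLocalRing.closedPoint L
  have hχVm : IsLocalRing.maximalIdeal W ≤ RingHom.ker χV.toRingHom := by
    have h1 : (Spec.map (CommRingCat.ofHom χV.toRingHom)) cL = IsLocalRing.closedPoint W := by
      rw [hχV', Scheme.Hom.comp_apply, hξ, hw₀2]
    have h2 := congrArg PrimeSpectrum.asIdeal h1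
    change (IsLocalRing.maximalIdeal L).comap χV.toRingHom = IsLocalRing.maximalIdeal W at h2
    rw [IsLocalRing.maximalIdeal_eq_bot, ← RingHom.ker_eq_comap_bot] at h2
    exact h2.ge
  -- the component through the point
  let qxB : PrimeSpectrum B := ⟨RingHom.ker χB.toRingHom, RingHom.ker_isPrime _⟩
  have hqxB : hU.fromSpec qxB = x := by
    have h1 : (Spec.map (CommRingCat.ofHom χB.toRingHom) ≫ hU.fromSpec) cL = x := by
      rw [hχB, Scheme.Hom.comp_apply, hξ, hw₀1]
    refine Eq.trans (congrArg hU.fromSpec ?_) h1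
    refine PrimeSpectrum.ext ?_
    change RingHom.ker χB.toRingHom = (IsLocalRing.maximalIdeal L).comap χB.toRingHom
    rw [IsLocalRing.maximalIdeal_eq_bot, ← RingHom.ker_eq_comap_bot]
  let Cf := p.Fiber B
  let ε := PrimeSpectrum.preimageHomeomorphFiber R B pp
  let e₀ : PrimeSpectrum Cf → F := fun c =>
    ⟨hU.fromSpec (ε.symm c).1, by
      change f (hU.fromSpec _) = s
      rw [hfj, show PrimeSpectrum.comap (algebraMap R B) (ε.symm c).1 = pp from (ε.symm c).2, hpp]⟩
  have he₀ : IsEmbedding e₀ :=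
    have h1 : IsEmbedding (fun c : PrimeSpectrum Cf => ((ε.symm c).1 : PrimeSpectrum B)) :=
      (Topology.IsEmbedding.subtypeVal (X := PrimeSpectrum B)).comp ε.symm.isEmbedding
    ((Scheme.Hom.isEmbedding hU.fromSpec).comp h1).codRestrict _ _
  have hrange : Set.range e₀ = Subtype.val ⁻¹' (U : Set X) := by
    ext w
    constructor
    · rintro ⟨c, rfl⟩; exact hU.range_fromSpec.le ⟨_, rfl⟩
    · intro hw
      obtain ⟨q', hq'⟩ := hU.range_fromSpec.ge hw
      have hqp : PrimeSpectrum.comap (algebraMap R B) q' = pp := hV.fromSpec.isOpenEmbedding.injective <| by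
        refine (hfj q').symm.trans ?_
        rw [hq', hpp]; exact w.2
      exact ⟨ε ⟨q', hqp⟩, Subtype.ext (by change hU.fromSpec (ε.symm (ε ⟨q', hqp⟩)).1 = w.1; rw [ε.symm_apply_apply]; exact hq')⟩
  obtain ⟨⟨zF, hzF⟩, hzcl⟩ := hz
  have hZcl : Z = closure {zF} := by
    refine Set.Subset.antisymm (fun w hw => ?_) (hZc.closure_subset_iff.mpr (Set.singleton_subset_iff.mpr hzF.1))
    rw [Topology.IsInducing.subtypeVal.closure_eq_preimage_closure_image, Set.image_singleton, hzF.2]
    exact hzcl ⟨w, hw, rfl⟩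
  obtain ⟨wF, hwFZ, hwFx⟩ := hxZ
  have hwF : wF = ⟨x, hxs⟩ := Subtype.ext hwFx
  subst hwF
  have hzx : zF ⤳ ⟨x, hxs⟩ := specializes_iff_mem_closure.mpr (hZcl ▸ hwFZ)
  obtain ⟨wz, hwz⟩ : ∃ c, e₀ c = zF := by
    refine hrange.ge ?_
    exact hzx.mem_open ((U.2).preimage continuous_subtype_val) hxU
  have hCdim : (n : WithBot ℕ∞) ≤ ringKrullDim (Cf ⧸ wz.asIdeal) := by
    refine hdimZ.trans (le_of_eq ?_)
    rw [← dim_inter_eq f s Z hZc hZi (Subtype.val ⁻¹' (U : Set X)) (U.2.preimage continuous_subtype_val)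
      ⟨_, hwFZ, hxU⟩, ← PrimeSpectrum.topologicalKrullDim_eq_ringKrullDim]
    symm
    refine GrothLib.Dim.IsEmbedding.topologicalKrullDim_eq
      (f := fun q => e₀ (PrimeSpectrum.comap (Ideal.Quotient.mk wz.asIdeal) q))
      (he₀.comp (PrimeSpectrum.isClosedEmbedding_comap_of_surjective _ _ Ideal.Quotient.mk_surjective).isEmbedding) ?_
    have hr : Set.range (PrimeSpectrum.comap (Ideal.Quotient.mk wz.asIdeal) : PrimeSpectrum (Cf ⧸ wz.asIdeal) → PrimeSpectrum Cf) = closure {wz} :=
      (range_comap_of_surjective _ _ Ideal.Quotient.mk_surjective).trans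
        ((congrArg (fun J : Ideal Cf => PrimeSpectrum.zeroLocus (J : Set Cf))
          (Ideal.mk_ker (I := wz.asIdeal))).trans (PrimeSpectrum.closure_singleton wz).symm)
    rw [Set.range_comp' e₀, hr, he₀.isInducing.closure_eq_preimage_closure_image, Set.image_preimage_eq_inter_range,
      Set.image_singleton, hwz, ← hZcl, hrange]
  have hR : ∀ r, algebraMap R L r = 0 ↔ r ∈ p := fun r => by
    rw [← hVp, Ideal.mem_comap, ← χV.commutes r]
    refine ⟨fun h => ?_, fun h => hχVm h⟩
    by_contra hr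
    exact ((IsLocalRing.notMem_maximalIdeal.mp hr).map χV.toRingHom).ne_zero h
  letI : Algebra p.ResidueField L := (Ideal.ResidueField.lift p (algebraMap R L)
    (fun r hr => (hR r).mpr hr) (fun r hr => isUnit_iff_ne_zero.mpr fun h => hr ((hR r).mp h))).toAlgebra
  haveI : IsScalarTower R p.ResidueField L := IsScalarTower.of_algebraMap_eq fun r =>
    (Ideal.ResidueField.lift_algebraMap (f := algebraMap R L) ..).symm
  let Ψ : Cf →ₐ[R] L :=
    Algebra.TensorProduct.lift (IsScalarTower.toAlgHom R p.ResidueField L) χB fun _ _ => .all _ _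
  let wx : PrimeSpectrum Cf := ⟨RingHom.ker Ψ.toRingHom, RingHom.ker_isPrime _⟩
  have hεx : (ε.symm wx).1 = qxB := by
    refine PrimeSpectrum.ext (Ideal.ext fun c => ?_)
    change Ψ (1 ⊗ₜ c) = 0 ↔ χB c = 0
    rw [show Ψ (1 ⊗ₜ c) = χB c from
      (Algebra.TensorProduct.lift_tmul ..).trans (by rw [map_one, one_mul])]
  have hle : wz.asIdeal ≤ RingHom.ker Ψ.toRingHom := (PrimeSpectrum.le_iff_specializes wz wx).mpr
    (he₀.isInducing.specializes_iff.mp (by
      rw [hwz, show e₀ wx = ⟨x, hxs⟩ from Subtype.ext ((congrArg hU.fromSpec hεx).trans hqxB)]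
      exact hzx))
  let C' := Cf ⧸ wz.asIdeal
  let φ : B →ₐ[R] C' := ((Ideal.Quotient.mkₐ p.ResidueField wz.asIdeal).restrictScalars R).comp
    Algebra.TensorProduct.includeRight
  let χC : C' →ₐ[R] L := Ideal.Quotient.liftₐ wz.asIdeal Ψ fun c hc => hle hc
  have hχφ : ∀ c, χC (φ c) = χB c := fun c => by
    change Ψ (1 ⊗ₜ c) = χB c
    exact (Algebra.TensorProduct.lift_tmul ..).trans (by rw [map_one, one_mul])
  have hgen : Function.Injective (aeval (R := p.ResidueField) fun i => φ (b i)) := by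
    refine @injective_aeval_of_le_ringKrullDim R B _ _ _ n b hqfB p _ C'
      (Ideal.Quotient.commRing wz.asIdeal) _ _ _ _ φ ?_ hCdim
    intro q₁ q₂ h
    refine (PrimeSpectrum.isClosedEmbedding_comap_of_surjective _ _ Ideal.Quotient.mk_surjective).injective
      (ε.symm.injective (Subtype.ext ?_))
    exact h
  have hker : ∀ w : B, φ w = 0 ↔ (1 : p.ResidueField) ⊗ₜ[R] w ∈ wz.asIdeal :=
    fun w => Ideal.Quotient.eq_zero_iff_mem
  have key : ∀ Q : Ideal (W ⊗[R] B), Q.IsPrime →
      Q.comap Algebra.TensorProduct.includeRight.toRingHom = RingHom.ker φ.toRingHom →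
      Q.comap (algebraMap W (W ⊗[R] B)) = IsLocalRing.maximalIdeal W →
      ∃ Q' : Ideal (W ⊗[R] B), Q'.IsPrime ∧ Q' ≤ Q ∧ Q'.comap (algebraMap W (W ⊗[R] B)) = ⊥ := by
    intro Q hQ hQB hQV
    have hjz : hU.fromSpec (ε.symm wz).1 = z := (congrArg Subtype.val hwz).trans hzF.2
    exact @exists_generic_le X S f R B _ _ _ hU.fromSpec _ hV.fromSpec _ sq (ε.symm wz).1
      (hjz.symm ▸ hopen) W _ _ _ _ Q hQ (hQB.trans (Ideal.ext fun w => hker w)) hQV
  obtain ⟨Qs, hsP, hsL, hsV', hsb⟩ := @exists_prime_below_of_field R B _ _ _ _ n b p _ C'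
    (Ideal.Quotient.commRing wz.asIdeal) _ _ _ _ φ hgen W _ _ _ _ hVp key L _ _ χV hχVm χC t
    (fun i => (hχφ _).trans (hbt i))
    (by
      letI : Algebra (MvPolynomial (Fin n) R) B := (aeval b).toRingHom.toAlgebra
      haveI := hqfB
      intro Q _
      infer_instance)
  have hle' : Qs ≤ RingHom.ker ψ.hom := fun w hw => by
    rw [RingHom.mem_ker, ← hsL w hw]
    change ψA w = _
    have h : χC.comp φ = χB := AlgHom.ext hχφ
    simp only [h]
    rfl
  -- the point over the generic point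
  let Qsp : PrimeSpectrum (W ⊗[R] B) := ⟨Qs, hsP⟩
  let Qtp : PrimeSpectrum (W ⊗[R] B) := ⟨RingHom.ker ψ.hom, RingHom.ker_isPrime _⟩
  let Ls : Type u := Qs.ResidueField
  let ev : W ⊗[R] B →+* Ls := algebraMap _ _
  let ζ : Spec (CommRingCat.of Ls) ⟶ pullback f aS := Spec.map (CommRingCat.ofHom ev) ≫ m
  have hζ : (ζ ≫ pullback.fst f aS) ≫ uu = (ζ ≫ pullback.snd f aS) ≫ a := by
    refine hom_ext_of_coordVal ?_ fun i => ?_
    · simp only [Category.assoc]
      rw [show a ≫ q = aS from haV, ← pullback.condition]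
    · simp only [ζ, Category.assoc]
      rw [← Category.assoc m, ← Category.assoc m, hm1, hm2, Category.assoc, ← Spec.map_comp_assoc,
        ← Spec.map_comp_assoc, ← CommRingCat.ofHom_comp, ← CommRingCat.ofHom_comp, coordVal_specMap,
        coordVal_specMap]
      rw [← sub_eq_zero]
      refine Eq.trans ?_ (Ideal.algebraMap_residueField_eq_zero.mpr (hsb i))
      rw [map_sub]
      rfl
  let ζ' : Spec (CommRingCat.of Ls) ⟶ pullback uu a :=
    pullback.lift (ζ ≫ pullback.fst f aS) (ζ ≫ pullback.snd f aS) hζ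
  have hζ' : ζ' ≫ J = ζ := by
    apply pullback.hom_ext <;> simp only [Category.assoc, hJ1, hJ2, ζ', pullback.lift_fst, pullback.lift_snd]
  let cs : Spec (CommRingCat.of Ls) := IsLocalRing.closedPoint Ls
  have hcs : (Spec.map (CommRingCat.ofHom ev)) cs = Qsp := by
    refine PrimeSpectrum.ext ?_
    change (IsLocalRing.maximalIdeal Ls).comap ev = Qs
    rw [IsLocalRing.maximalIdeal_eq_bot, ← RingHom.ker_eq_comap_bot]
    exact Ideal.ker_algebraMap_residueField Qs
  refine ⟨ζ' cs, ?_, ?_⟩
  · rw [← J.isEmbedding.isInducing.specializes_iff, ← Scheme.Hom.comp_apply ζ', hζ']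
    have h1 : (Spec.map ψ) cL = Qtp := by
      refine PrimeSpectrum.ext ?_
      change (IsLocalRing.maximalIdeal L).comap ψ.hom = _
      rw [IsLocalRing.maximalIdeal_eq_bot, ← RingHom.ker_eq_comap_bot]
    rw [show J w₀ = m Qtp by
      rw [← h1]
      change J w₀ = (Spec.map ψ ≫ m) cL
      rw [hψm]
      change J w₀ = J (ξ cL)
      rw [hξ]]
    change m ((Spec.map (CommRingCat.ofHom ev)) cs) ⤳ _
    rw [hcs]
    exact ((PrimeSpectrum.le_iff_specializes Qsp Qtp).mp hle').map m.continuous
  · rw [← hJ2, ← Scheme.Hom.comp_apply, ← Category.assoc, hζ']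
    change (pullback.snd f aS) (m ((Spec.map (CommRingCat.ofHom ev)) cs)) = _
    rw [hcs]
    change (m ≫ pullback.snd f aS) Qsp = _
    rw [hm2]
    exact PrimeSpectrum.ext hsV'

end GrothLib.QuasiSec
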