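import Groth.Agent.Lib.QuasiSec.GoingDown
import Groth.Agent.Lib.SubtrLim.Multisection
import Mathlib.RingTheory.Valuation.LocalSubring
import Mathlib.RingTheory.LocalRing.ResidueField.Fiber

/-!
Cutting by `d` functions a scheme over `R` universally open at the generic point of a `d`-dimensional
component of a fibre: every generization of the image lifts to the cut.
-/

universe u

open TensorProduct MvPolynomial IsLocalRing

noncomputable section

namespace GrothLib.QuasiSec

variable {R B : Type u} [CommRing R] [CommRing B] [Algebra R B]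

/-- A valuation ring centred on a specialization of primes. -/
theorem exists_valuationRing (p p' : Ideal R) [p.IsPrime] [p'.IsPrime] (hp : p' ≤ p) :
    ∃ (V : Type u) (_ : CommRing V) (_ : IsDomain V) (_ : ValuationRing V) (_ : Algebra R V),
      (maximalIdeal V).comap (algebraMap R V) = p ∧ RingHom.ker (algebraMap R V) = p' := by
  let α : Localization.AtPrime p →+* p'.ResidueField :=
    IsLocalization.lift (M := p.primeCompl) (g := algebraMap R p'.ResidueField) fun r =>
      isUnit_iff_ne_zero.mpr fun h => r.2 (hp (Ideal.algebraMap_residueField_eq_zero.mp h))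
  obtain ⟨A, hA, hAl⟩ := IsLocalRing.exists_factor_valuationRing α
  let β : Localization.AtPrime p →+* A := α.codRestrict _ hA
  haveI : IsLocalHom β := hAl
  letI : Algebra R A := (β.comp (algebraMap R _)).toAlgebra
  refine ⟨A, inferInstance, inferInstance, inferInstance, inferInstance, ?_, ?_⟩
  · rw [RingHom.algebraMap_toAlgebra, ← Ideal.comap_comap,
      (show (maximalIdeal A).comap β = maximalIdeal _ from ((IsLocalRing.local_hom_TFAE β).out 0 4).mp hAl)]
    exact Localization.AtPrime.comap_maximalIdeal (I := p)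
  · ext r
    rw [RingHom.mem_ker, RingHom.algebraMap_toAlgebra, RingHom.comp_apply]
    refine Iff.trans ?_ (Ideal.algebraMap_residueField_eq_zero (I := p') (x := r))
    rw [Subtype.ext_iff]
    exact Eq.congr_left (IsLocalization.lift_eq _ r)

/-- The map of a base change to a valuation ring onto its closed fibre. -/
def closedFibreMap {C' : Type u} [CommRing C'] (p : Ideal R) [p.IsPrime] [Algebra p.ResidueField C']
    [Algebra R C'] [IsScalarTower R p.ResidueField C'] (φ : B →ₐ[R] C')
    (V : Type u) [CommRing V] [IsDomain V] [ValuationRing V] [Algebra R V]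
    [Algebra p.ResidueField (ResidueField V)] [IsScalarTower R p.ResidueField (ResidueField V)] :
    V ⊗[R] B →ₐ[R] C' ⊗[p.ResidueField] ResidueField V :=
  Algebra.TensorProduct.lift
    (((Algebra.TensorProduct.includeRight (R := p.ResidueField) (A := C') (B := ResidueField V)).restrictScalars R).comp
      (IsScalarTower.toAlgHom R V (ResidueField V)))
    ((Algebra.TensorProduct.includeLeft (R := p.ResidueField) (S := R) (A := C') (B := ResidueField V)).comp φ)
    fun _ _ => .all _ _

/-- **Generizations in the section cut out by `b = t`.** At a point `Q₁` of the closed fibre on the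
section `b = t`, quasi-finite for `b`, there is a generization on the section in the generic fibre. -/
theorem exists_prime_below [Algebra.FiniteType R B] {d : ℕ} (b : Fin d → B)
    (p : Ideal R) [p.IsPrime] {C' : Type u} [CommRing C'] [IsDomain C'] [Algebra p.ResidueField C']
    [Algebra R C'] [IsScalarTower R p.ResidueField C'] (φ : B →ₐ[R] C')
    (hgen : Function.Injective (aeval (R := p.ResidueField) fun i => φ (b i)))
    (V : Type u) [CommRing V] [IsDomain V] [ValuationRing V] [Algebra R V]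
    [Algebra p.ResidueField (ResidueField V)] [IsScalarTower R p.ResidueField (ResidueField V)]
    (hopen : ∀ Q : Ideal (V ⊗[R] B), Q.IsPrime →
      Q.comap Algebra.TensorProduct.includeRight.toRingHom = RingHom.ker φ.toRingHom →
      Q.comap (algebraMap V (V ⊗[R] B)) = maximalIdeal V →
      ∃ Q' : Ideal (V ⊗[R] B), Q'.IsPrime ∧ Q' ≤ Q ∧ Q'.comap (algebraMap V (V ⊗[R] B)) = ⊥)
    (t : Fin d → V) (Q₁ : Ideal (C' ⊗[p.ResidueField] ResidueField V)) [Q₁.IsPrime]
    (hbt : ∀ i, φ (b i) ⊗ₜ[p.ResidueField] (1 : ResidueField V) -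
      (1 : C') ⊗ₜ[p.ResidueField] algebraMap V (ResidueField V) (t i) ∈ Q₁)
    (hqf : letI : Algebra (MvPolynomial (Fin d) R) B := (aeval b).toRingHom.toAlgebra
      Algebra.QuasiFiniteAt (MvPolynomial (Fin d) R)
        ((Q₁.comap (Algebra.TensorProduct.includeLeftRingHom (R := p.ResidueField))).comap φ.toRingHom)) :
    ∃ Qs : Ideal (V ⊗[R] B), Qs.IsPrime ∧ Qs ≤ Q₁.comap (closedFibreMap p φ V).toRingHom ∧
      Qs.comap (algebraMap V (V ⊗[R] B)) = ⊥ ∧
      ∀ i, (1 : V) ⊗ₜ[R] b i - t i ⊗ₜ[R] (1 : B) ∈ Qs := by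
  let K := IsLocalRing.ResidueField V
  let κ := p.ResidueField
  let f : MvPolynomial (Fin d) κ →ₐ[κ] C' := aeval fun i => φ (b i)
  obtain ⟨hreg, hreg'⟩ := isRegular_of_polynomial (K := K) f hgen
  -- the two primes of the closed fibre after the extension to `K`
  let CK := C' ⊗[κ] K
  let Qx' : Ideal C' := Q₁.comap (Algebra.TensorProduct.includeLeftRingHom (R := κ))
  obtain ⟨Q₃, hQ₃, hQ₃₁⟩ := Ideal.exists_minimalPrimes_le (I := (⊥ : Ideal CK)) (J := Q₁) bot_le
  haveI hQ₃p : Q₃.IsPrime := hQ₃.1.1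
  have hQ₃nzd : ∀ z ∈ Q₃, z ∉ nonZeroDivisors CK :=
    fun z hz => Set.disjoint_left.mp (Ideal.disjoint_nonZeroDivisors_of_mem_minimalPrimes hQ₃) hz
  -- the map from the base change
  let ι : B →ₐ[R] CK := (Algebra.TensorProduct.includeLeft (R := κ) (S := R) (A := C') (B := K)).comp φ
  let ιV : V →ₐ[R] CK :=
    ((Algebra.TensorProduct.includeRight (R := κ) (A := C') (B := K)).restrictScalars R).comp
      (IsScalarTower.toAlgHom R V K)
  let π : V ⊗[R] B →ₐ[R] CK := closedFibreMap p φ V
  have hπB : ∀ c : B, π (1 ⊗ₜ c) = φ c ⊗ₜ (1 : K) := fun c => by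
    simp [π, closedFibreMap]
    rfl
  have hπV : ∀ v : V, π (v ⊗ₜ 1) = (1 : C') ⊗ₜ (algebraMap V K v) := fun v => by
    simp [π, closedFibreMap]
    rfl
  let qx : Ideal (V ⊗[R] B) := Q₁.comap π.toRingHom
  let qz : Ideal (V ⊗[R] B) := Q₃.comap π.toRingHom
  haveI : qx.IsPrime := Ideal.comap_isPrime _ _
  haveI : qz.IsPrime := Ideal.comap_isPrime _ _
  have hqzB : qz.comap Algebra.TensorProduct.includeRight.toRingHom = RingHom.ker φ.toRingHom := by
    ext c
    change π (1 ⊗ₜ c) ∈ Q₃ ↔ φ c = 0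
    rw [hπB]
    refine ⟨fun h => ?_, fun h => by rw [h, TensorProduct.zero_tmul]; exact Q₃.zero_mem⟩
    by_contra hc
    exact hQ₃nzd _ h (hreg' _ hc)
  have hqxB : qx.comap Algebra.TensorProduct.includeRight.toRingHom = Qx'.comap φ.toRingHom := by
    ext c
    change π (1 ⊗ₜ c) ∈ Q₁ ↔ φ c ∈ Qx'
    rw [hπB]
    rfl
  have hqzV : qz.comap (algebraMap V (V ⊗[R] B)) = maximalIdeal V := by
    refine le_antisymm (IsLocalRing.le_maximalIdeal (Ideal.comap_isPrime _ _).ne_top) fun v hv => ?_
    change π (v ⊗ₜ 1) ∈ Q₃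
    rw [hπV, IsLocalRing.ResidueField.algebraMap_eq, (IsLocalRing.residue_eq_zero_iff v).mpr hv,
      TensorProduct.tmul_zero]
    exact Q₃.zero_mem
  obtain ⟨Q', hQ'p, hQ'z, hQ'V⟩ := hopen qz inferInstance hqzB hqzV
  -- the polynomial algebra over the valuation ring
  let g : MvPolynomial (Fin d) V →ₐ[V] V ⊗[R] B := aeval fun i => (1 : V) ⊗ₜ[R] b i
  letI : Algebra (MvPolynomial (Fin d) R) B := (aeval b).toRingHom.toAlgebra
  haveI := hqf
  letI : Algebra (MvPolynomial (Fin d) V) (V ⊗[R] B) := g.toRingHom.toAlgebra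
  haveI : IsScalarTower V (MvPolynomial (Fin d) V) (V ⊗[R] B) :=
    IsScalarTower.of_algebraMap_eq fun a => (g.commutes a).symm
  haveI : Algebra.FiniteType (MvPolynomial (Fin d) V) (V ⊗[R] B) :=
    Algebra.FiniteType.of_restrictScalars_finiteType V (MvPolynomial (Fin d) V) (V ⊗[R] B)
  letI : Algebra (MvPolynomial (Fin d) R) (MvPolynomial (Fin d) V) :=
    (MvPolynomial.map (algebraMap R V)).toAlgebra
  letI : Algebra (MvPolynomial (Fin d) R) (V ⊗[R] B) :=
    (g.toRingHom.comp (MvPolynomial.map (algebraMap R V))).toAlgebra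
  haveI : IsScalarTower (MvPolynomial (Fin d) R) (MvPolynomial (Fin d) V) (V ⊗[R] B) :=
    IsScalarTower.of_algebraMap_eq fun a => rfl
  let iB : B →ₐ[MvPolynomial (Fin d) R] V ⊗[R] B :=
    { (Algebra.TensorProduct.includeRight : B →ₐ[R] V ⊗[R] B).toRingHom with
      commutes' := fun a => by
        change (Algebra.TensorProduct.includeRight : B →ₐ[R] V ⊗[R] B) (aeval b a) =
          g (MvPolynomial.map (algebraMap R V) a)
        induction a using MvPolynomial.induction_on with
        | C r =>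
          simp only [g, map_C, aeval_C, AlgHom.commutes]
          exact (IsScalarTower.algebraMap_apply R V (V ⊗[R] B) r)
        | add a c ha hc => simp only [map_add, ha, hc]
        | mul_X a i ha =>
          simp only [map_mul, ha, map_X, g, aeval_X, Algebra.TensorProduct.includeRight_apply] }
  let F : MvPolynomial (Fin d) V ⊗[MvPolynomial (Fin d) R] B →ₐ[MvPolynomial (Fin d) V] V ⊗[R] B :=
    Algebra.TensorProduct.lift (Algebra.ofId _ _) iB fun _ _ => .all _ _
  have hF : Function.Surjective F := fun z => by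
    induction z using TensorProduct.induction_on with
    | zero => exact ⟨0, map_zero _⟩
    | tmul v c =>
      refine ⟨C v ⊗ₜ c, ?_⟩
      change g (C v) * iB c = v ⊗ₜ c
      change g (C v) * ((1 : V) ⊗ₜ[R] c) = v ⊗ₜ c
      simp [g]
    | add a c ha hc =>
      obtain ⟨a, rfl⟩ := ha; obtain ⟨c, rfl⟩ := hc
      exact ⟨a + c, map_add _ _ _⟩
  haveI : Algebra.QuasiFiniteAt (MvPolynomial (Fin d) V) (qx.comap F.toRingHom) := by
    refine Algebra.QuasiFiniteAt.baseChange
      (Qx'.comap φ.toRingHom) (qx.comap F.toRingHom) ?_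
    rw [← hqxB]
    ext c
    change (1 : V) ⊗ₜ[R] c ∈ qx ↔ F (1 ⊗ₜ c) ∈ qx
    simp [F, iB]
  haveI : Algebra.QuasiFiniteAt (MvPolynomial (Fin d) V) qx :=
    Algebra.QuasiFiniteAt.of_surjectiveOnStalks (qx.comap F.toRingHom) F
      (RingHom.surjectiveOnStalks_of_surjective hF) qx rfl
  -- the generic fibre component through the cut
  let D := (V ⊗[R] B) ⧸ Q'
  have hQ'x : Q' ≤ qx := hQ'z.trans (Ideal.comap_mono hQ₃₁)
  let qD : Ideal D := qx.map (Ideal.Quotient.mk Q')
  haveI : qD.IsPrime := Ideal.map_isPrime_of_surjective Ideal.Quotient.mk_surjective (by rwa [Ideal.mk_ker])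
  haveI : Algebra.QuasiFiniteAt (MvPolynomial (Fin d) V) qD :=
    Algebra.QuasiFiniteAt.of_surjectiveOnStalks qx (Ideal.Quotient.mkₐ _ Q')
      (RingHom.surjectiveOnStalks_of_surjective Ideal.Quotient.mk_surjective) qD
      (Ideal.ext fun z => (Ideal.mem_quotient_iff_mem hQ'x).symm)
  haveI : Algebra.FiniteType (MvPolynomial (Fin d) V) D :=
    Algebra.FiniteType.of_surjective (Ideal.Quotient.mkₐ _ Q') Ideal.Quotient.mk_surjective
  haveI : IsIntegrallyClosed (MvPolynomial (Fin d) V) :=
    GrothLib.SubtrLim.isIntegrallyClosed_mvPolynomial V d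
  have hgD : Function.Injective (algebraMap (MvPolynomial (Fin d) V) D) := by
    refine (injective_iff_map_eq_zero _).mpr fun P hP => by_contra fun hP0 => ?_
    obtain ⟨c, P₀, hc, rfl, e, he⟩ := GrothLib.SubtrLim.exists_eq_C_mul_primitive hP0
    have h1 : g (C c * P₀) ∈ Q' := Ideal.Quotient.eq_zero_iff_mem.mp hP
    rw [map_mul] at h1
    rcases hQ'p.mem_or_mem h1 with h | h
    · rw [← MvPolynomial.algebraMap_eq, AlgHom.commutes] at h
      exact hc (Ideal.mem_bot.mp (hQ'V ▸ h))
    · let E := (Algebra.TensorProduct.comm κ (MvPolynomial (Fin d) κ) K).toRingEquiv.trans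
        (MvPolynomial.algebraTensorAlgEquiv κ K (σ := Fin d)).toRingEquiv
      let ψ := Algebra.TensorProduct.map f (AlgHom.id κ K)
      have hcomm : ∀ P : MvPolynomial (Fin d) V,
          π (g P) = ψ (E.symm (MvPolynomial.map (IsLocalRing.residue V) P)) := by
        intro P
        induction P using MvPolynomial.induction_on with
        | C v =>
          have h2 : E ((1 : MvPolynomial (Fin d) κ) ⊗ₜ[κ] (IsLocalRing.residue V v : K)) =
              C (IsLocalRing.residue V v) := by
            simp [E, algebraTensorAlgEquiv_tmul, Algebra.smul_def]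
          rw [map_C, ← h2, E.symm_apply_apply]
          change π (g (C v)) = _
          rw [← MvPolynomial.algebraMap_eq, AlgHom.commutes, Algebra.TensorProduct.algebraMap_apply,
            Algebra.algebraMap_self, RingHom.id_apply, hπV]
          simp [ψ]
          rfl
        | add a c ha hc => simp only [map_add, ha, hc]
        | mul_X a i ha =>
          have h2 : E ((X i : MvPolynomial (Fin d) κ) ⊗ₜ[κ] (1 : K)) = X i := by
            simp [E, algebraTensorAlgEquiv_tmul]
          simp only [map_mul, ha, map_X]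
          rw [← h2, E.symm_apply_apply]
          congr 1
          simp only [g, aeval_X, hπB, ψ, Algebra.TensorProduct.map_tmul, AlgHom.id_apply]
          congr 1
          change _ = f (X i)
          simp [f]
      have h3 : π (g P₀) ∈ Q₃ := hQ'z h
      rw [hcomm] at h3
      have h4 : E.symm (MvPolynomial.map (IsLocalRing.residue V) P₀) = 0 :=
        by_contra fun hne => hQ₃nzd _ h3 (hreg _ hne)
      have h5 := congr(MvPolynomial.coeff e $((map_eq_zero_iff _ E.symm.injective).mp h4))
      rw [MvPolynomial.coeff_map, he, map_one, MvPolynomial.coeff_zero] at h5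
      exact one_ne_zero h5
  -- the section
  let P₀ : Ideal (MvPolynomial (Fin d) V) :=
    RingHom.ker (aeval t : MvPolynomial (Fin d) V →ₐ[V] V).toRingHom
  haveI : P₀.IsPrime := RingHom.ker_isPrime _
  have hP₀ : P₀ ≤ qD.comap (algebraMap (MvPolynomial (Fin d) V) D) := fun P hP => by
    rw [Ideal.mem_comap]
    change Ideal.Quotient.mk Q' (g P) ∈ qx.map (Ideal.Quotient.mk Q')
    refine Ideal.mem_map_of_mem _ ?_
    rw [← Ideal.Quotient.eq_zero_iff_mem]
    change (Ideal.Quotient.mkₐ V qx) (g P) = 0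
    have hz : (fun i => (Ideal.Quotient.mkₐ V qx) ((1 : V) ⊗ₜ[R] b i)) =
        fun i => Algebra.ofId V _ (t i) := by
      funext i
      refine Ideal.Quotient.mk_eq_mk_iff_sub_mem _ _ |>.mpr ?_
      change π ((1 : V) ⊗ₜ[R] b i - t i ⊗ₜ[R] (1 : B)) ∈ Q₁
      rw [map_sub, hπB, hπV]
      exact hbt i
    rw [← AlgHom.comp_apply, comp_aeval, hz, ← comp_aeval, AlgHom.comp_apply]
    rw [show aeval t P = 0 from hP, map_zero]
  obtain ⟨Q'', hQ''p, hQ''le, hQ''P⟩ := exists_le_of_quasiFiniteAt hgD qD P₀ hP₀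
  refine ⟨Q''.comap (Ideal.Quotient.mk Q'), Ideal.comap_isPrime _ _,
    fun c hc => (Ideal.mem_quotient_iff_mem hQ'x).mp (hQ''le hc), ?_, fun i => ?_⟩
  · ext v
    have h1 : C v ∈ P₀ ↔ v = 0 := by
      rw [RingHom.mem_ker]; simp
    rw [Ideal.mem_comap, Ideal.mem_comap, Ideal.mem_bot, ← h1, ← hQ''P, Ideal.mem_comap]
    refine iff_of_eq (congrArg (· ∈ Q'') ?_)
    change Ideal.Quotient.mk Q' _ = Ideal.Quotient.mk Q' (g (C v))
    rw [← MvPolynomial.algebraMap_eq, AlgHom.commutes]
  · have h1 : (X i - C (t i) : MvPolynomial (Fin d) V) ∈ P₀ := by rw [RingHom.mem_ker]; simp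
    rw [← hQ''P, Ideal.mem_comap] at h1
    rw [Ideal.mem_comap]
    refine Set.mem_of_eq_of_mem (s := (Q'' : Set D)) ?_ h1
    change Ideal.Quotient.mk Q' _ = Ideal.Quotient.mk Q' (g (X i - C (t i)))
    rw [map_sub g, aeval_X, ← MvPolynomial.algebraMap_eq, AlgHom.commutes]
    rfl

/-- **Generizations in the section cut out by `b = t`**, the point being given by a field. -/
theorem exists_prime_below_of_field [Algebra.FiniteType R B] {d : ℕ} (b : Fin d → B)
    (p : Ideal R) [p.IsPrime] {C' : Type u} [CommRing C'] [IsDomain C'] [Algebra p.ResidueField C']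
    [Algebra R C'] [IsScalarTower R p.ResidueField C'] (φ : B →ₐ[R] C')
    (hgen : Function.Injective (aeval (R := p.ResidueField) fun i => φ (b i)))
    (V : Type u) [CommRing V] [IsDomain V] [ValuationRing V] [Algebra R V]
    (hVp : (maximalIdeal V).comap (algebraMap R V) = p)
    (hopen : ∀ Q : Ideal (V ⊗[R] B), Q.IsPrime →
      Q.comap Algebra.TensorProduct.includeRight.toRingHom = RingHom.ker φ.toRingHom →
      Q.comap (algebraMap V (V ⊗[R] B)) = maximalIdeal V →
      ∃ Q' : Ideal (V ⊗[R] B), Q'.IsPrime ∧ Q' ≤ Q ∧ Q'.comap (algebraMap V (V ⊗[R] B)) = ⊥)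
    {L : Type u} [Field L] [Algebra R L] (χV : V →ₐ[R] L) (hχV : maximalIdeal V ≤ RingHom.ker χV.toRingHom)
    (χC : C' →ₐ[R] L) (t : Fin d → V) (hbt : ∀ i, χC (φ (b i)) = χV (t i))
    (hqf : letI : Algebra (MvPolynomial (Fin d) R) B := (aeval b).toRingHom.toAlgebra
      ∀ Q : Ideal B, ∀ [Q.IsPrime], Algebra.QuasiFiniteAt (MvPolynomial (Fin d) R) Q) :
    ∃ Qs : Ideal (V ⊗[R] B), Qs.IsPrime ∧
      (∀ w ∈ Qs, Algebra.TensorProduct.lift χV (χC.comp φ) (fun _ _ => .all _ _) w = 0) ∧
      Qs.comap (algebraMap V (V ⊗[R] B)) = ⊥ ∧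
      ∀ i, (1 : V) ⊗ₜ[R] b i - t i ⊗ₜ[R] (1 : B) ∈ Qs := by
  let K := IsLocalRing.ResidueField V
  let κ := p.ResidueField
  have hK : ∀ r : R, algebraMap R K r = 0 ↔ r ∈ p := fun r => by
    rw [IsScalarTower.algebraMap_apply R V K, IsLocalRing.ResidueField.algebraMap_eq,
      IsLocalRing.residue_eq_zero_iff, ← hVp, Ideal.mem_comap]
  letI : Algebra κ K := (Ideal.ResidueField.lift p (algebraMap R K)
    (fun r hr => (hK r).mpr hr) (fun r hr => isUnit_iff_ne_zero.mpr fun h => hr ((hK r).mp h))).toAlgebra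
  haveI : IsScalarTower R κ K := IsScalarTower.of_algebraMap_eq fun r =>
    (Ideal.ResidueField.lift_algebraMap (f := algebraMap R K) ..).symm
  letI : Algebra κ L := (χC.toRingHom.comp (algebraMap κ C')).toAlgebra
  let ρ : K →+* L := Ideal.Quotient.lift (maximalIdeal V) χV.toRingHom hχV
  have hρ : ρ.comp (algebraMap κ K) = χC.toRingHom.comp (algebraMap κ C') :=
    Ideal.ResidueField.ringHom_ext <| RingHom.ext fun r => by
      change ρ (algebraMap κ K (algebraMap R κ r)) = χC (algebraMap κ C' (algebraMap R κ r))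
      rw [← IsScalarTower.algebraMap_apply, ← IsScalarTower.algebraMap_apply, AlgHom.commutes,
        IsScalarTower.algebraMap_apply R V K, ← χV.commutes r]
      rfl
  let ρ' : K →ₐ[κ] L := { ρ with commutes' := fun a => RingHom.congr_fun hρ a }
  let χ' : C' →ₐ[κ] L := { χC.toRingHom with commutes' := fun _ => rfl }
  let M : C' ⊗[κ] K →ₐ[κ] L := Algebra.TensorProduct.lift χ' ρ' fun _ _ => .all _ _
  haveI : (RingHom.ker M.toRingHom).IsPrime := RingHom.ker_isPrime _
  obtain ⟨Qs, hs, hle, hsV, hsb⟩ := exists_prime_below b p φ hgen V hopen t (RingHom.ker M.toRingHom)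
    (fun i => by
      change M _ = 0
      rw [map_sub, Algebra.TensorProduct.lift_tmul, Algebra.TensorProduct.lift_tmul, map_one, map_one,
        mul_one, one_mul, sub_eq_zero]
      exact hbt i) (hqf _)
  refine ⟨Qs, hs, fun w hw => ?_, hsV, hsb⟩
  have h1 : M (closedFibreMap p φ V w) = 0 := hle hw
  rw [← h1]
  clear hw h1
  induction w using TensorProduct.induction_on with
  | zero => simp
  | tmul v c =>
    have h2 : closedFibreMap p φ V (v ⊗ₜ c) = φ c ⊗ₜ[κ] algebraMap V K v := by
      simp [closedFibreMap]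
      rfl
    rw [h2, Algebra.TensorProduct.lift_tmul, Algebra.TensorProduct.lift_tmul]
    change χV v * χC (φ c) = χC (φ c) * ρ (algebraMap V K v)
    rw [mul_comm]
    rfl
  | add a c ha hc => simp only [map_add, ha, hc]

/-- **Lifting generizations to a cut.** `b` cuts the fibre at `p` to something quasi-finite at the
point `Qx'`, is algebraically independent on the component `C'`, and the generic fibre specializes
onto the generic point of `C'` after base change to valuation rings: then after base change to any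
valuation ring centred at `p`, the cut has a point of the generic fibre specializing to the point. -/
theorem exists_prime_over_valuation [Algebra.FiniteType R B] {d : ℕ} (b : Fin d → B)
    (p : Ideal R) [p.IsPrime] {C' : Type u} [CommRing C'] [IsDomain C'] [Algebra p.ResidueField C']
    [Algebra R C'] [IsScalarTower R p.ResidueField C'] (φ : B →ₐ[R] C') (Qx' : Ideal C') [Qx'.IsPrime]
    (hbx : ∀ i, φ (b i) ∈ Qx')
    (hgen : Function.Injective (aeval (R := p.ResidueField) fun i => φ (b i)))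
    (hqf : letI : Algebra (MvPolynomial (Fin d) R) B := (aeval b).toRingHom.toAlgebra
      Algebra.QuasiFiniteAt (MvPolynomial (Fin d) R) (Qx'.comap φ.toRingHom))
    (hopen : ∀ (V : Type u) [CommRing V] [IsDomain V] [ValuationRing V] [Algebra R V],
      (maximalIdeal V).comap (algebraMap R V) = p → ∀ Q : Ideal (V ⊗[R] B), Q.IsPrime →
      Q.comap Algebra.TensorProduct.includeRight.toRingHom = RingHom.ker φ.toRingHom →
      Q.comap (algebraMap V (V ⊗[R] B)) = maximalIdeal V →
      ∃ Q' : Ideal (V ⊗[R] B), Q'.IsPrime ∧ Q' ≤ Q ∧ Q'.comap (algebraMap V (V ⊗[R] B)) = ⊥)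
    (V : Type u) [CommRing V] [IsDomain V] [ValuationRing V] [Algebra R V]
    (hVp : (maximalIdeal V).comap (algebraMap R V) = p) :
    ∃ Qs Qt : Ideal (V ⊗[R] B), Qs.IsPrime ∧ Qt.IsPrime ∧ Qs ≤ Qt ∧
      Qt.comap Algebra.TensorProduct.includeRight.toRingHom = Qx'.comap φ.toRingHom ∧
      Qt.comap (algebraMap V (V ⊗[R] B)) = maximalIdeal V ∧
      Qs.comap (algebraMap V (V ⊗[R] B)) = ⊥ ∧ ∀ i, (1 : V) ⊗ₜ[R] b i ∈ Qs := by
  let K := IsLocalRing.ResidueField V
  let κ := p.ResidueField
  have hK : ∀ r : R, algebraMap R K r = 0 ↔ r ∈ p := fun r => by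
    rw [IsScalarTower.algebraMap_apply R V K, IsLocalRing.ResidueField.algebraMap_eq,
      IsLocalRing.residue_eq_zero_iff, ← hVp, Ideal.mem_comap]
  letI : Algebra κ K := (Ideal.ResidueField.lift p (algebraMap R K)
    (fun r hr => (hK r).mpr hr) (fun r hr => isUnit_iff_ne_zero.mpr fun h => hr ((hK r).mp h))).toAlgebra
  haveI : IsScalarTower R κ K := IsScalarTower.of_algebraMap_eq fun r =>
    (Ideal.ResidueField.lift_algebraMap (f := algebraMap R K) ..).symm
  let CK := C' ⊗[κ] K
  obtain ⟨⟨Q₁, hQ₁⟩, hQ₁'⟩ := PrimeSpectrum.comap_surjective_of_faithfullyFlat (A := C') (B := CK) ⟨Qx', inferInstance⟩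
  replace hQ₁' : Q₁.comap (algebraMap C' CK) = Qx' := congrArg PrimeSpectrum.asIdeal hQ₁'
  have hQ₁B : ∀ c : B, φ c ⊗ₜ[κ] (1 : K) ∈ Q₁ ↔ φ c ∈ Qx' := fun c => by
    rw [← hQ₁', Ideal.mem_comap]; rfl
  obtain ⟨Qs, hs, hle, hsV, hsb⟩ := exists_prime_below b p φ hgen V (hopen V hVp) (fun _ => 0) Q₁
    (fun i => by
      rw [map_zero, TensorProduct.tmul_zero, sub_zero]
      exact (hQ₁B _).mpr (hbx i))
    (by
      have h : (Q₁.comap (Algebra.TensorProduct.includeLeftRingHom (R := κ))) = Qx' := hQ₁'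
      simp only [h]
      exact hqf)
  refine ⟨Qs, Q₁.comap (closedFibreMap p φ V).toRingHom, hs, Ideal.comap_isPrime _ _, hle, ?_, ?_, hsV,
    fun i => by simpa using hsb i⟩
  · ext c
    change closedFibreMap p φ V (1 ⊗ₜ c) ∈ Q₁ ↔ φ c ∈ Qx'
    simpa [closedFibreMap] using hQ₁B c
  · refine le_antisymm (IsLocalRing.le_maximalIdeal (Ideal.comap_isPrime _ _).ne_top) fun v hv => ?_
    change closedFibreMap p φ V (v ⊗ₜ 1) ∈ Q₁
    simp [closedFibreMap, IsLocalRing.ResidueField.algebraMap_eq, (IsLocalRing.residue_eq_zero_iff v).mpr hv]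

/-- Every generization of the base point lifts to the cut. -/
theorem exists_prime_over_generization [Algebra.FiniteType R B] {d : ℕ} (b : Fin d → B)
    (p : Ideal R) [p.IsPrime] {C' : Type u} [CommRing C'] [IsDomain C'] [Algebra p.ResidueField C']
    [Algebra R C'] [IsScalarTower R p.ResidueField C'] (φ : B →ₐ[R] C') (Qx' : Ideal C') [Qx'.IsPrime]
    (hbx : ∀ i, φ (b i) ∈ Qx')
    (hgen : Function.Injective (aeval (R := p.ResidueField) fun i => φ (b i)))
    (hqf : letI : Algebra (MvPolynomial (Fin d) R) B := (aeval b).toRingHom.toAlgebra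
      Algebra.QuasiFiniteAt (MvPolynomial (Fin d) R) (Qx'.comap φ.toRingHom))
    (hopen : ∀ (V : Type u) [CommRing V] [IsDomain V] [ValuationRing V] [Algebra R V],
      (maximalIdeal V).comap (algebraMap R V) = p → ∀ Q : Ideal (V ⊗[R] B), Q.IsPrime →
      Q.comap Algebra.TensorProduct.includeRight.toRingHom = RingHom.ker φ.toRingHom →
      Q.comap (algebraMap V (V ⊗[R] B)) = maximalIdeal V →
      ∃ Q' : Ideal (V ⊗[R] B), Q'.IsPrime ∧ Q' ≤ Q ∧ Q'.comap (algebraMap V (V ⊗[R] B)) = ⊥)
    (p' : Ideal R) [p'.IsPrime] (hp' : p' ≤ p) :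
    ∃ q : Ideal B, q.IsPrime ∧ q ≤ Qx'.comap φ.toRingHom ∧
      q.comap (algebraMap R B) = p' ∧ ∀ i, b i ∈ q := by
  obtain ⟨V, _, _, _, _, hVp, hVk⟩ := exists_valuationRing p p' hp'
  obtain ⟨Qs, Qt, hs, ht, hle, htB, -, hsV, hsb⟩ :=
    exists_prime_over_valuation b p φ Qx' hbx hgen hqf hopen V hVp
  refine ⟨Qs.comap Algebra.TensorProduct.includeRight.toRingHom, Ideal.comap_isPrime _ _,
    htB ▸ Ideal.comap_mono hle, ?_, hsb⟩
  rw [Ideal.comap_comap, AlgHom.toRingHom_eq_coe, AlgHom.comp_algebraMap,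
    IsScalarTower.algebraMap_eq R V (V ⊗[R] B), ← Ideal.comap_comap, hsV, ← RingHom.ker_eq_comap_bot, hVk]

end GrothLib.QuasiSec
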