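import Mathlib.RingTheory.ZariskisMainTheorem
import Mathlib.RingTheory.IntegralClosure.GoingDown
import Mathlib.RingTheory.Flat.Localization
import Mathlib.RingTheory.TensorProduct.MvPolynomial
import Mathlib.LinearAlgebra.TensorProduct.RightExactness
import Mathlib.RingTheory.Ideal.MinimalPrime.Localization

/-!
Going down at a quasi-finite point over a normal domain; regular elements after extension of the base
field.
-/

universe u

open TensorProduct

namespace GrothLib.QuasiSec

/-- **Going down at a quasi-finite point** of a domain over a normal domain. -/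
theorem exists_le_of_quasiFiniteAt {T D : Type u} [CommRing T] [IsDomain T] [IsIntegrallyClosed T]
    [CommRing D] [IsDomain D] [Algebra T D] [Algebra.FiniteType T D]
    (hinj : Function.Injective (algebraMap T D)) (q : Ideal D) [q.IsPrime] [Algebra.QuasiFiniteAt T q]
    (P : Ideal T) [P.IsPrime] (hP : P ≤ q.comap (algebraMap T D)) :
    ∃ Q : Ideal D, Q.IsPrime ∧ Q ≤ q ∧ Q.comap (algebraMap T D) = P := by
  obtain ⟨S', hS', r, hrq, hbij⟩ :=
    Algebra.QuasiFiniteAt.exists_fg_and_exists_notMem_and_awayMap_bijective (R := T) q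
  haveI : Module.Finite T S' := Module.Finite.iff_fg.mpr hS'
  haveI : FaithfulSMul T S' := (faithfulSMul_iff_algebraMap_injective _ _).mpr fun a b h =>
    hinj (congrArg Subtype.val h :)
  let qS : Ideal S' := q.comap S'.val.toRingHom
  obtain ⟨Q₀, hQ₀, hQ₀p, hQ₀P⟩ := Ideal.exists_ideal_le_liesOver_of_le (p := P) qS (show P ≤ qS.under T from hP)
  have hrQ₀ : r ∉ Q₀ := fun h => hrq (hQ₀ h)
  let Dr := Localization.Away (S'.val.toRingHom r)
  let Sr := Localization.Away r
  let e : Sr ≃+* Dr := RingEquiv.ofBijective (Localization.awayMap S'.val.toRingHom r) hbij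
  have hdisj : Disjoint (Submonoid.powers r : Set S') Q₀ := Set.disjoint_left.mpr fun x hx hxQ => by
    obtain ⟨n, rfl⟩ := hx
    exact hrQ₀ (hQ₀p.mem_of_pow_mem n hxQ)
  let Q₁ : Ideal Sr := Q₀.map (algebraMap S' Sr)
  haveI : Q₁.IsPrime := IsLocalization.isPrime_of_isPrime_disjoint (Submonoid.powers r) Sr Q₀ hQ₀p hdisj
  let Q : Ideal D := Q₁.comap (e.symm.toRingHom.comp (algebraMap D Dr))
  have hQS : Q.comap S'.val.toRingHom = Q₀ := by
    rw [show Q₀ = Q₁.comap (algebraMap S' Sr) from
      (IsLocalization.under_map_of_isPrime_disjoint (Submonoid.powers r) Sr hQ₀p hdisj).symm]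
    ext x
    simp only [Q, Ideal.mem_comap, RingHom.comp_apply]
    rw [show algebraMap D Dr (S'.val.toRingHom x) = e (algebraMap S' Sr x) from
      ((IsLocalization.map_eq (S := Sr) (Q := Dr) (g := S'.val.toRingHom) (T := Submonoid.powers (S'.val.toRingHom r))
        (M := Submonoid.powers r) (by rintro _ ⟨k, rfl⟩; exact ⟨k, (map_pow _ _ _).symm⟩) x).symm : _)]
    simp
  refine ⟨Q, inferInstance, fun x hx => ?_, ?_⟩
  · obtain ⟨y, hy⟩ := e.surjective (algebraMap D Dr x)
    obtain ⟨a, ⟨_, n, rfl⟩, rfl⟩ := IsLocalization.exists_mk'_eq (Submonoid.powers r) y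
    have h1 : algebraMap D Dr (S'.val.toRingHom a) = algebraMap D Dr (x * S'.val.toRingHom r ^ n) := by
      rw [map_mul, ← hy, ← map_pow S'.val.toRingHom]
      have hc : ∀ z, algebraMap D Dr (S'.val.toRingHom z) = e (algebraMap S' Sr z) := fun z =>
        ((IsLocalization.map_eq (S := Sr) (Q := Dr) (g := S'.val.toRingHom) (T := Submonoid.powers (S'.val.toRingHom r))
          (M := Submonoid.powers r) (by rintro _ ⟨k, rfl⟩; exact ⟨k, (map_pow _ _ _).symm⟩) z).symm : _)
      rw [hc, hc, ← map_mul e, IsLocalization.mk'_spec Sr a (⟨r ^ n, n, rfl⟩ : Submonoid.powers r)]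
    have h2 : S'.val.toRingHom a = x * S'.val.toRingHom r ^ n := by
      refine IsLocalization.injective Dr (M := Submonoid.powers (S'.val.toRingHom r)) (powers_le_nonZeroDivisors_of_noZeroDivisors ?_) h1
      intro h0
      exact hrq (Set.mem_of_eq_of_mem (s := (q : Set D)) h0 q.zero_mem)
    have ha : a ∈ Q₀ := by
      rw [← hQS, Ideal.mem_comap, h2]
      exact Q.mul_mem_right _ hx
    have h3 : x * S'.val.toRingHom r ^ n ∈ q := by rw [← h2]; exact hQ₀ ha
    rcases (inferInstance : q.IsPrime).mem_or_mem h3 with h | h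
    · exact h
    · exact absurd ((inferInstance : q.IsPrime).mem_of_pow_mem n h) hrq
  · rw [hQ₀P.over, ← hQS]
    rfl

/-- **Regular elements after extension of the field.** If a domain `C` contains a polynomial ring over
`κ`, nonzero polynomials over an extension `K` and nonzero elements of `C` are regular in `C ⊗ K`. -/
theorem isRegular_of_polynomial {κ K C : Type u} [Field κ] [Field K] [Algebra κ K] {σ : Type}
    [CommRing C] [IsDomain C] [Algebra κ C] (f : MvPolynomial σ κ →ₐ[κ] C) (hf : Function.Injective f) :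
    (∀ x : MvPolynomial σ κ ⊗[κ] K, x ≠ 0 →
      Algebra.TensorProduct.map f (AlgHom.id κ K) x ∈
        nonZeroDivisors (C ⊗[κ] K)) ∧
    ∀ c : C, c ≠ 0 → c ⊗ₜ[κ] (1 : K) ∈ nonZeroDivisors (C ⊗[κ] K) := by
  letI : Algebra (MvPolynomial σ κ) C := f.toRingHom.toAlgebra
  haveI : IsScalarTower κ (MvPolynomial σ κ) C := IsScalarTower.of_algebraMap_eq fun a => (f.commutes a).symm
  have hinj : Function.Injective (algebraMap (MvPolynomial σ κ) C) := hf
  have hfe : f = IsScalarTower.toAlgHom κ (MvPolynomial σ κ) C := rfl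
  rw [hfe]
  let T := MvPolynomial σ κ
  let L := FractionRing C
  haveI : FaithfulSMul T C := (faithfulSMul_iff_algebraMap_injective _ _).mpr hinj
  let F := FractionRing T
  haveI : FaithfulSMul T L := (faithfulSMul_iff_algebraMap_injective _ _).mpr <| by
    rw [IsScalarTower.algebraMap_eq T C L]
    exact (IsFractionRing.injective C L).comp hinj
  letI : Algebra F L := FractionRing.liftAlgebra T L
  haveI : Module.Flat T L := Module.Flat.trans T F L
  let j : C ⊗[κ] K →ₐ[κ] L ⊗[κ] K :=
    Algebra.TensorProduct.map (IsScalarTower.toAlgHom κ C L) (AlgHom.id κ K)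
  have hj : Function.Injective j :=
    Module.Flat.rTensor_preserves_injective_linearMap (M := K)
      (IsScalarTower.toAlgHom κ C L).toLinearMap (IsFractionRing.injective C L)
  have key : ∀ z : C ⊗[κ] K, IsRegular (j z) → z ∈ nonZeroDivisors (C ⊗[κ] K) := fun z hz => by
    refine mem_nonZeroDivisors_of_injective hj ?_
    exact isRegular_iff_mem_nonZeroDivisors.mp hz
  refine ⟨fun x hx => key _ ?_, fun c hc => key _ ?_⟩
  · haveI : IsDomain (T ⊗[κ] K) :=
      ((Algebra.TensorProduct.comm κ T K).toRingEquiv.trans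
        (MvPolynomial.algebraTensorAlgEquiv κ K (σ := σ)).toRingEquiv).toMulEquiv.isDomain (MvPolynomial σ K)
    let E := Algebra.TensorProduct.cancelBaseChange κ T L L K
    have hmap : ∀ y : T ⊗[κ] K, E (1 ⊗ₜ y) =
        j (Algebra.TensorProduct.map (IsScalarTower.toAlgHom κ T C) (AlgHom.id κ K) y) := by
      intro y
      induction y using TensorProduct.induction_on with
      | zero => simp
      | tmul t k =>
        simp only [E, j, Algebra.TensorProduct.cancelBaseChange_tmul, Algebra.TensorProduct.map_tmul,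
          IsScalarTower.coe_toAlgHom', AlgHom.coe_id, id_eq, Algebra.smul_def, mul_one]
        rw [← IsScalarTower.algebraMap_apply T C L]
      | add a b ha hb => rw [TensorProduct.tmul_add, map_add, ha, hb, map_add, map_add]
    rw [← hmap]
    refine isRegular_iff_mem_nonZeroDivisors.mpr ?_
    refine mem_nonZeroDivisors_of_injective E.symm.injective ?_
    rw [E.symm_apply_apply, mem_nonZeroDivisors_iff_right]
    intro z hz
    have hl : Function.Injective (LinearMap.lTensor L (LinearMap.mulRight T x)) :=
      Module.Flat.lTensor_preserves_injective_linearMap _ fun a b h => mul_right_cancel₀ hx h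
    refine hl (Eq.trans ?_ (map_zero _).symm)
    rw [← hz]
    clear hz
    induction z using TensorProduct.induction_on with
    | zero => simp
    | tmul l y => simp
    | add a b ha hb => rw [map_add, ha, hb, add_mul]
  · refine IsUnit.isRegular ?_
    simp only [j, Algebra.TensorProduct.map_tmul, IsScalarTower.coe_toAlgHom', AlgHom.coe_id, id_eq]
    have h : IsUnit (algebraMap C L c) :=
      isUnit_iff_ne_zero.mpr ((map_ne_zero_iff _ (IsFractionRing.injective C L)).mpr hc)
    exact h.map (Algebra.TensorProduct.includeLeftRingHom (R := κ) (B := K))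

end GrothLib.QuasiSec
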