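import Groth.Agent.Lib.QuasiSec.Finite
import Groth.Agent.Lib.Neutral.Basic
import Groth.Agent.Lib.SepAct.Main
import Groth.Agent.Lib.SepAct.Saturate
import Groth.Agent.Lib.GrpSchField.GrpdDim

/-!
Translating finitely many points of a fibre of a homogeneous space into a dense open by a closed
point of the neutral component.
-/

universe u

open CategoryTheory CategoryTheory.Limits MonoidalCategory CartesianMonoidalCategory MonObj GrpObj
open AlgebraicGeometry Topology

set_option backward.isDefEq.respectTransparency false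

namespace GrothLib.QuasiSec

open GrothLib.SepAct (left_apply left_apply₂ orbit key_of_dense dense_fibre baseMap isPullback_baseMap unitComp ptOf)

variable {S : Scheme.{u}} {G X : Over S} [GrpObj G]

/-- The translate of a point over a maximal point of the neutral component lies in a dense open. -/
theorem act_mem_of_maximal (a : AlgGrp.Action G X) [LocallyOfFiniteType G.hom]
    (hΦ : Surjective (lift a.act (snd G X)).left) (U : X.left.Opens)
    {K₁ : Type u} [Field K₁] (b₁ : Spec (CommRingCat.of K₁) ⟶ S) {s : S}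
    (hb : b₁ (IsLocalRing.closedPoint K₁) = s) (x : Over.mk b₁ ⟶ X)
    (hft : LocallyOfFiniteType (X.hom.fiberToSpecResidueField s))
    (hd : X.hom.base ⁻¹' {s} ⊆ closure ((U : Set X.left) ∩ X.hom.base ⁻¹' {s}))
    (w : ↥(G ⊗ Over.mk b₁).left) (hw : (fst G (Over.mk b₁)).left w ∈ SGA3x.neutralSet G)
    (hmax : ∀ w', w' ⤳ w → w' = w) :
    (lift (fst G (Over.mk b₁)) (snd G (Over.mk b₁) ≫ x) ≫ a.act).left w ∈ U := by
  let K := AlgebraicClosure K₁
  let e : Spec (CommRingCat.of K) ⟶ Spec (CommRingCat.of K₁) :=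
    Spec.map (CommRingCat.ofHom (algebraMap K₁ K))
  let b : Spec (CommRingCat.of K) ⟶ S := e ≫ b₁
  let T := Over.mk b
  let e' : T ⟶ Over.mk b₁ := Over.homMk e rfl
  haveI : Subsingleton (Spec (CommRingCat.of K₁)) := inferInstanceAs (Subsingleton (PrimeSpectrum K₁))
  obtain rfl : b (IsLocalRing.closedPoint K) = s := by
    rw [← hb]
    exact congrArg b₁ (Subsingleton.elim _ _)
  obtain ⟨hN, hdense⟩ := dense_fibre b hft (U : Set X.left) hd
  haveI := hN
  haveI : LocallyOfFiniteType (pullback.snd G.hom b) := MorphismProperty.pullback_snd _ _ inferInstance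
  let J := (baseMap G e').left
  haveI : Surjective J := by
    haveI : Surjective e := ⟨fun p => ⟨IsLocalRing.closedPoint K, Subsingleton.elim _ _⟩⟩
    exact MorphismProperty.of_isPullback (P := @Surjective) (isPullback_baseMap G e').flip (inferInstanceAs (Surjective e))
  obtain ⟨v, hv⟩ := J.surjective w
  have hJfst : baseMap G e' ≫ fst G (Over.mk b₁) = fst G T := lift_fst _ _
  have hvC : v ∈ unitComp b G := by
    rw [← GrothLib.Neutral.preimage_neutralSet_eq_unitComp, Set.mem_preimage, ← left_apply hJfst]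
    exact Set.mem_of_eq_of_mem (congrArg (fst G (Over.mk b₁)).left hv) hw
  have hirr : IsIrreducible (unitComp b G) := isIrreducible_irreducibleComponent
  obtain ⟨c, hc⟩ := QuasiSober.sober hirr isClosed_irreducibleComponent
  have hkey := key_of_dense a b hΦ U hdense (e' ≫ x)
  obtain ⟨q, hqC, hqU⟩ := hkey
  have hcU : c ∈ (orbit a T (e' ≫ x)).left ⁻¹' ((fst X T).left ⁻¹' (U : Set X.left)) :=
    (hc.specializes hqC).mem_open ((U.2.preimage (fst X T).left.continuous).preimage
      (orbit a T (e' ≫ x)).left.continuous) hqU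
  have hJc : J c = w := hmax _ (hv ▸ (hc.specializes hvC).map J.continuous)
  have he : orbit a T (e' ≫ x) ≫ fst X T =
      baseMap G e' ≫ lift (fst G (Over.mk b₁)) (snd G (Over.mk b₁) ≫ x) ≫ a.act := by
    simp [orbit, baseMap, comp_lift_assoc]
  have h1 := left_apply₂ he c
  rw [← hJc, ← h1]
  exact hcU

omit [GrpObj G] in
/-- The finite map to a fibre from the base change along a finite point of the residue field. -/
theorem exists_finite_fibreMap (Y : Over S) (s : S) {K : Type u} [Field K]
    (β : Spec (CommRingCat.of K) ⟶ Spec (S.residueField s)) [IsFinite β] :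
    ∃ π : (Y ⊗ Over.mk (β ≫ S.fromSpecResidueField s)).left ⟶ Y.hom.fiber s,
      π ≫ Y.hom.fiberι s = (fst Y (Over.mk (β ≫ S.fromSpecResidueField s))).left ∧ IsFinite π := by
  let b := β ≫ S.fromSpecResidueField s
  let π : pullback Y.hom b ⟶ Y.hom.fiber s := pullback.lift (pullback.fst _ _) (pullback.snd _ _ ≫ β)
    (by rw [Category.assoc, pullback.condition])
  have h1 : IsPullback (pullback.snd Y.hom b) π β (Y.hom.fiberToSpecResidueField s) := by
    refine IsPullback.of_right (h₁₂ := Y.hom.fiberι s) (v₁₃ := Y.hom) (h₂₂ := S.fromSpecResidueField s)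
      ?_ ?_ ?_ |>.flip
    · rw [show π ≫ Y.hom.fiberι s = pullback.fst _ _ from pullback.lift_fst _ _ _]
      exact IsPullback.of_hasPullback Y.hom b
    · exact pullback.lift_snd _ _ _
    · exact IsPullback.of_hasPullback Y.hom (S.fromSpecResidueField s)
  exact ⟨π, pullback.lift_fst _ _ _, MorphismProperty.of_isPullback h1 inferInstance⟩

omit [GrpObj G] in
/-- A closed point of a fibre as a finite point. -/
theorem exists_finite_point (Y : Over S) (s : S) (hY : LocallyOfFiniteType (Y.hom.fiberToSpecResidueField s))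
    (c : ↥(Y.hom.fiber s)) (hc : IsClosed ({c} : Set ↥(Y.hom.fiber s))) :
    ∃ (K : Type u) (_ : Field K) (β : Spec (CommRingCat.of K) ⟶ Spec (S.residueField s))
      (x : Over.mk (β ≫ S.fromSpecResidueField s) ⟶ Y),
      IsFinite β ∧ x.left (IsLocalRing.closedPoint K) = Y.hom.fiberι s c := by
  haveI := hY
  have hfin := GrothLib.GrpSchField.isFinite_fromSpecResidueField (Y.hom.fiberToSpecResidueField s) hc
  refine ⟨(Y.hom.fiber s).residueField c, inferInstance,
    (Y.hom.fiber s).fromSpecResidueField c ≫ Y.hom.fiberToSpecResidueField s,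
    Over.homMk ((Y.hom.fiber s).fromSpecResidueField c ≫ Y.hom.fiberι s) ?_, hfin, ?_⟩
  · change _ = (((Y.hom.fiber s).fromSpecResidueField c ≫ Y.hom.fiberToSpecResidueField s) ≫ S.fromSpecResidueField s)
    rw [Category.assoc, Category.assoc]
    exact congrArg (_ ≫ ·) pullback.condition
  · change ((Y.hom.fiber s).fromSpecResidueField c ≫ Y.hom.fiberι s) _ = _
    rw [Scheme.Hom.comp_apply, Scheme.fromSpecResidueField_apply]

/-- A finite part of a fibre is closed under lifting specializations. -/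
theorem exists_specializes_lift {P Q : Scheme.{u}} (π : P ⟶ Q) [IsFinite π] (v : P) (q : Q) (h : π v ⤳ q) :
    ∃ v', v ⤳ v' ∧ π v' = q :=
  π.isClosedMap.specializingMap h

/-- **A good closed point of the neutral component.** It translates finitely many points of the fibre
into a given dense open. -/
theorem exists_closed_point_translating (a : AlgGrp.Action G X) [LocallyOfFiniteType G.hom]
    (hΦ : Surjective (lift a.act (snd G X)).left) (U : X.left.Opens) (W : G.left.Opens) (s : S)
    (hW : η[G].left s ∈ W) (hft : LocallyOfFiniteType (X.hom.fiberToSpecResidueField s))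
    (hd : X.hom.base ⁻¹' {s} ⊆ closure ((U : Set X.left) ∩ X.hom.base ⁻¹' {s}))
    (A : Set X.left) (hA : A.Finite) (hAs : A ⊆ X.hom.base ⁻¹' {s}) :
    ∃ (g₀ z : ↥(G.hom.fiber s)) (C : Set ↥(G.hom.fiber s)), IsClosed ({g₀} : Set ↥(G.hom.fiber s)) ∧
      C ∈ irreducibleComponents ↥(G.hom.fiber s) ∧ IsOpen C ∧ IsGenericPoint z C ∧ g₀ ∈ C ∧
      G.hom.fiberι s z ∈ W ∧
      ∀ q : ↥(G ⊗ X).left, (fst G X).left q = G.hom.fiberι s g₀ → (snd G X).left q ∈ A → a.act.left q ∈ U := by
  have hGf : LocallyOfFiniteType (G.hom.fiberToSpecResidueField s) := MorphismProperty.pullback_snd _ _ inferInstance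
  let H := Red.bc (S.fromSpecResidueField s) G
  haveI : LocallyOfFiniteType H.hom := hGf
  let C : Set ↥(G.hom.fiber s) := GrothLib.Neutral.fibComp G s
  let u := GrothLib.Neutral.fibUnit G s (IsLocalRing.closedPoint (S.residueField s))
  have hCeq : C = irreducibleComponent (X := ↥(G.hom.fiber s)) u :=
    GrothLib.GrpSchField.connectedComponent_eq_irreducibleComponent H u
  have hCmem : C ∈ irreducibleComponents ↥(G.hom.fiber s) :=
    hCeq ▸ irreducibleComponent_mem_irreducibleComponents (X := ↥(G.hom.fiber s)) u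
  have hCo : IsOpen C := GrothLib.GrpSchField.isOpen_of_mem_irreducibleComponents H hCmem
  obtain ⟨z, hz⟩ := QuasiSober.sober hCmem.1 (isClosed_of_mem_irreducibleComponents C hCmem)
  have hzmax : ∀ w, w ⤳ z → w = z := fun w hw => by
    have hsub : C ⊆ closure {w} := by
      rw [← hz.def]
      exact closure_minimal (Set.singleton_subset_iff.mpr hw.mem_closure) isClosed_closure
    have hwC : w ∈ C := (hCmem.2 isIrreducible_singleton.closure hsub) (subset_closure rfl)
    exact (hw.antisymm (hz.specializes hwC)).eq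
  have hzW : G.hom.fiberι s z ∈ W := by
    refine ((hz.specializes (show u ∈ C from mem_connectedComponent)).map (G.hom.fiberι s).continuous).mem_open W.2 ?_
    rw [GrothLib.Neutral.fiberι_fibUnit]
    exact hW
  have hCn : ∀ c ∈ C, G.hom.fiberι s c ∈ SGA3x.neutralSet G := fun c hc =>
    ((GrothLib.Neutral.image_fibComp G s).le ⟨c, hc, rfl⟩).1
  -- closed specializations of the points of `A`
  haveI := hft
  haveI : JacobsonSpace ↥(X.hom.fiber s) := LocallyOfFiniteType.jacobsonSpace (X.hom.fiberToSpecResidueField s)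
  have hspec : ∀ α : A, ∃ (α' c : ↥(X.hom.fiber s)), X.hom.fiberι s α' = α.1 ∧ α' ⤳ c ∧
      IsClosed ({c} : Set ↥(X.hom.fiber s)) := by
    rintro ⟨α, hα⟩
    obtain ⟨α', hα'⟩ : α ∈ Set.range (X.hom.fiberι s) := by rw [X.hom.range_fiberι]; exact hAs hα
    obtain ⟨c, hc, hcc⟩ := nonempty_inter_closedPoints (Z := closure ({α'} : Set ↥(X.hom.fiber s)))
      ⟨α', subset_closure rfl⟩ isClosed_closure.isLocallyClosed
    exact ⟨α', c, hα', specializes_iff_mem_closure.mpr hc, hcc⟩
  choose α' c hα' hαc hcc using hspec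
  choose K hK β x hβ hx using fun α : A => exists_finite_point X s hft (c α) (hcc α)
  choose π hπ hπf using fun α : A => @exists_finite_fibreMap S G s (K α) (hK α) (β α) (hβ α)
  let bad : A → Set ↥(G.hom.fiber s) := fun α => (π α) ''
    ((π α) ⁻¹' C ∩ (lift (fst G _) (snd G _ ≫ x α) ≫ a.act).left ⁻¹' (U : Set X.left)ᶜ)
  have hbad : ∀ α, IsClosed (bad α) := fun α => by
    haveI := hπf α
    exact (π α).isClosedMap _ (((isClosed_of_mem_irreducibleComponents C hCmem).preimage (π α).continuous).inter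
      (U.2.isClosed_compl.preimage (Scheme.Hom.continuous _)))
  have hzbad : ∀ α, z ∉ bad α := by
    rintro α ⟨w, ⟨hwC, hwU⟩, hwz⟩
    haveI := hπf α
    letI := hK α
    refine hwU (@act_mem_of_maximal S G X _ a _ hΦ U (K α) (hK α) (β α ≫ S.fromSpecResidueField s) s ?_ (x α) hft hd w ?_ ?_)
    · rw [Scheme.Hom.comp_apply]
      exact S.fromSpecResidueField_apply s _
    · rw [← hπ α, Scheme.Hom.comp_apply]
      exact hCn _ hwC
    · intro w' hw'
      have h2 : π α w' = π α w := by
        rw [hwz]; exact hzmax _ (hwz ▸ hw'.map (π α).continuous)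
      haveI := ((π α).isDiscrete_preimage_singleton (π α w)).1
      exact congrArg Subtype.val
        (Specializes.eq (x := (⟨w', h2⟩ : ↥((π α) ⁻¹' {π α w}))) (y := ⟨w, rfl⟩) ((subtype_specializes_iff _ _).mpr hw'))
  haveI := hA.to_subtype
  obtain ⟨g₀, hg₀, hg₀c⟩ := nonempty_inter_closedPoints (X := ↥(G.hom.fiber s))
    (Z := (C ∩ G.hom.fiberι s ⁻¹' (W : Set G.left)) ∩ (⋃ α, bad α)ᶜ) (by
      refine ⟨z, ⟨hz.mem, hzW⟩, ?_⟩
      simp only [Set.mem_compl_iff, Set.mem_iUnion, not_exists]
      exact hzbad)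
    ((hCo.inter (W.2.preimage (G.hom.fiberι s).continuous)).inter
      (isClosed_iUnion_of_finite hbad).isOpen_compl).isLocallyClosed
  refine ⟨g₀, z, C, hg₀c, hCmem, hCo, hz, hg₀.1.1, hzW, fun q hq₁ hq₂ => ?_⟩
  -- move `q` to a point over a closed specialization
  obtain ⟨K₀, _, β₀, gp, hβ₀, hgp⟩ := exists_finite_point G s hGf g₀ hg₀c
  haveI := hβ₀
  obtain ⟨π₀, hπ₀, hπ₀f⟩ := exists_finite_fibreMap X s β₀
  haveI := hπ₀f
  let T₀ := Over.mk (β₀ ≫ S.fromSpecResidueField s)
  let I₀ : X ⊗ T₀ ⟶ G ⊗ X := baseMap X gp ≫ (β_ X G).hom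
  obtain ⟨v, hv, -⟩ := Scheme.exists_preimage_of_isPullback (isPullback_baseMap X gp)
    ((β_ X G).inv.left q) (IsLocalRing.closedPoint K₀) (by
      rw [left_apply (show (β_ X G).inv ≫ snd X G = fst G X by simp), hq₁, ← hgp])
  have hI₀ : I₀.left v = q := by
    rw [Over.comp_left, Scheme.Hom.comp_apply, hv]
    exact left_apply (β_ X G).inv_hom_id q
  let α : A := ⟨_, hq₂⟩
  have hπv : π₀ v = α' α := by
    apply (X.hom.fiberι s).isEmbedding.injective
    rw [hα', ← Scheme.Hom.comp_apply, hπ₀, ← left_apply (show I₀ ≫ snd G X = fst X T₀ by simp [I₀, baseMap]), hI₀]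
  obtain ⟨v', hv', hv'c⟩ := exists_specializes_lift π₀ v (c α) (hπv ▸ hαc α)
  refine (((hI₀ ▸ hv'.map I₀.left.continuous) : q ⤳ I₀.left v').map a.act.left.continuous).mem_open U.2 ?_
  have h1 : (fst G X).left (I₀.left v') = G.hom.fiberι s g₀ := by
    rw [left_apply (show I₀ ≫ fst G X = snd X T₀ ≫ gp by simp [I₀, baseMap]), Over.comp_left, Scheme.Hom.comp_apply,
      ← hgp]
    exact congrArg gp.left (Subsingleton.elim (α := PrimeSpectrum K₀) _ _)
  have h2 : (snd G X).left (I₀.left v') = X.hom.fiberι s (c α) := by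
    rw [left_apply (show I₀ ≫ snd G X = fst X T₀ by simp [I₀, baseMap]), ← hπ₀, Scheme.Hom.comp_apply, hv'c]
  obtain ⟨w, hw, -⟩ := Scheme.exists_preimage_of_isPullback (isPullback_baseMap G (x α))
    (I₀.left v') (@IsLocalRing.closedPoint (K α) _ _) (by rw [h2, ← hx α])
  have hnot := hg₀.2
  simp only [Set.mem_compl_iff, Set.mem_iUnion, not_exists] at hnot
  have hwπ : π α w = g₀ := by
    apply (G.hom.fiberι s).isEmbedding.injective
    rw [← h1, ← Scheme.Hom.comp_apply, hπ α, ← hw]
    exact (left_apply (show baseMap G (x α) ≫ fst G X = fst G _ from lift_fst _ _) w).symm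
  by_contra hU
  refine hnot α ⟨w, ⟨Set.mem_of_eq_of_mem (s := C) hwπ hg₀.1.1, ?_⟩, hwπ⟩
  rw [Set.mem_preimage, Over.comp_left, Scheme.Hom.comp_apply]
  exact fun hmem => hU (hw ▸ hmem)

end GrothLib.QuasiSec
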